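import Groth.Agent.TateGlob.K620.MdlLim
import Groth.Agent.TateGlob.K829.SIntBase
import Mathlib.Algebra.Category.Ring.FilteredColimits
import Mathlib.CategoryTheory.Limits.Types.Filtered

/-!
# `Spec K` as the limit of the spectra of the rings of `S`-integers

`K/k` such that every element has finitely many poles.

* `D k K : (Idx k K)ᵒᵖ ⥤ Scheme`, `S ↦ Spec O_S`, with limit cone `cone k K` of vertex `Spec K`;
* instances for the results of `MdlLim`.
-/

set_option autoImplicit false
universe u
open CategoryTheory CategoryTheory.Limits AlgebraicGeometry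

namespace K620.Sys

open FunFld

variable (k K : Type u) [Field k] [Field K] [Algebra k K]

/-- Finite nonempty sets of places. -/
abbrev Idx : Type u := {S : Set (Place k K) // S.Finite ∧ S.Nonempty}

instance : IsDirectedOrder (Idx k K) where
  directed a b := ⟨⟨a.1 ∪ b.1, a.2.1.union b.2.1, a.2.2.mono Set.subset_union_left⟩,
    Set.subset_union_left, Set.subset_union_right⟩

variable {k K} in
/-- The inclusion `O_S ⊆ O_T`. -/
noncomputable abbrev incl {S T : Set (Place k K)} (h : S ⊆ T) : AdFn.SInt S →ₐ[k] AdFn.SInt T :=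
  Subalgebra.inclusion (fun _ hx v hv => hx v fun h' => hv (h h'))

/-- The diagram of the rings of `S`-integers. -/
noncomputable def ringDiagram : Idx k K ⥤ CommRingCat.{u} where
  obj S := CommRingCat.of (AdFn.SInt S.1)
  map {S T} h := CommRingCat.ofHom (incl (leOfHom h)).toRingHom
  map_id S := by ext x; rfl
  map_comp f g := by ext x; rfl

/-- The cocone with vertex `K`. -/
noncomputable def ringCocone : Cocone (ringDiagram k K) where
  pt := CommRingCat.of K
  ι := { app := fun S => CommRingCat.ofHom (AdFn.SInt.toK S.1)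
         naturality := fun S T h => by ext x; rfl }

/-- Elements have finitely many poles, and there are places. -/
class FinPoles : Prop where
  fin : ∀ x : K, {v : Place k K | 1 < v.1 x}.Finite
  ne : Nonempty (Place k K)

variable {k K} in
theorem finPoles_of_isGen {x : K} (h : K660.Places.IsGen k K x) : FinPoles k K where
  fin f := by simpa using h.finite_pole f
  ne := by
    by_contra hne
    exact h.tr (h.isAlgebraic_of_forall_le fun P => (hne ⟨P⟩).elim)

/-- Function fields of one variable. -/
theorem finPoles [Algebra (RatFunc k) K] [FunctionField k K] [IsScalarTower k (RatFunc k) K] :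
    FinPoles k K := finPoles_of_isGen (K829.FunBase.isGen k K)

instance [h : FinPoles k K] : Nonempty (Idx k K) :=
  have ⟨v⟩ := h.ne
  ⟨⟨{v}, Set.finite_singleton v, Set.singleton_nonempty v⟩⟩

/-- `K` is the filtered colimit of the rings of `S`-integers. -/
noncomputable def isColimitRingCocone [h : FinPoles k K] : IsColimit (ringCocone k K) := by
  haveI : ReflectsColimit (ringDiagram k K) (forget CommRingCat.{u}) :=
    reflectsColimit_of_reflectsIsomorphisms (ringDiagram k K) (forget CommRingCat.{u})
  refine isColimitOfReflects (forget CommRingCat.{u}) ?_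
  refine Types.FilteredColimit.isColimitOf _ _ ?_ ?_
  · intro x
    have v := h.ne.some
    refine ⟨⟨{v} ∪ {v : Place k K | 1 < v.1 x}, (Set.finite_singleton v).union (h.fin x),
      (Set.singleton_nonempty v).mono Set.subset_union_left⟩, ⟨x, fun w hw => ?_⟩, rfl⟩
    exact not_lt.mp fun h' => hw (Set.subset_union_right h')
  · intro i j xi xj h
    obtain ⟨k, hik, hjk⟩ := exists_ge_ge i j
    refine ⟨k, homOfLE hik, homOfLE hjk, ?_⟩
    exact Subtype.ext h

/-- The diagram of the schemes `Spec O_S`. -/
noncomputable abbrev D : (Idx k K)ᵒᵖ ⥤ Scheme.{u} := (ringDiagram k K).op ⋙ Scheme.Spec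

/-- The cone with vertex `Spec K`. -/
noncomputable abbrev cone : Cone (D k K) where
  pt := Spec (CommRingCat.of K)
  π := (Scheme.Spec.mapCone (ringCocone k K).op).π

/-- `Spec K` is the limit of the `Spec O_S`. -/
noncomputable def isLimit [FinPoles k K] : IsLimit (cone k K) :=
  isLimitOfPreserves Scheme.Spec (isColimitRingCocone k K).op

theorem cone_π (i : (Idx k K)ᵒᵖ) :
    (cone k K).π.app i = Spec.map (CommRingCat.ofHom (AdFn.SInt.toK i.unop.1)) := rfl

theorem D_map {i j : (Idx k K)ᵒᵖ} (f : j ⟶ i) :
    (D k K).map f = Spec.map (CommRingCat.ofHom (incl (leOfHom f.unop)).toRingHom) := rfl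

instance (i : (Idx k K)ᵒᵖ) : IsAffine ((D k K).obj i) :=
  inferInstanceAs (IsAffine (Spec (CommRingCat.of (AdFn.SInt i.unop.1))))

instance {i j : (Idx k K)ᵒᵖ} (f : i ⟶ j) : IsAffineHom ((D k K).map f) := inferInstance

instance (i : (Idx k K)ᵒᵖ) : IsAffineHom ((cone k K).π.app i) :=
  inferInstanceAs (IsAffineHom (Spec.map (CommRingCat.ofHom (AdFn.SInt.toK i.unop.1))))

instance (i : (Idx k K)ᵒᵖ) : CompactSpace ((D k K).obj i) := inferInstance

instance (i : (Idx k K)ᵒᵖ) : QuasiSeparatedSpace ((D k K).obj i) := inferInstance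

instance (i : (Idx k K)ᵒᵖ) : QuasiCompact ((cone k K).π.app i) := inferInstance

instance (i : (Idx k K)ᵒᵖ) : IsSchemeTheoreticallyDominant ((cone k K).π.app i) := by
  have : Fact (Function.Injective (AdFn.SInt.toK i.unop.1)) := ⟨Subtype.val_injective⟩
  exact Groth.Agent.Models.WeilPts.schDominant_of_injective (AdFn.SInt.toK i.unop.1)

end K620.Sys
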