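import Groth.Agent.TateGlob.K620.ExtField
import Groth.Agent.AbSch.K454.ToriVan
import Groth.Agent.Red.K212.GmTor
import Groth.Agent.S13478

/-!
# The inputs of the devissage: tori and the additive group
-/

set_option autoImplicit false
universe u
open CategoryTheory CategoryTheory.Limits AlgebraicGeometry MonObj

namespace K620.ExtV

theorem van_torus {Y : Scheme.{u}} (T : Over Y) [GrpObj T] [IsCommMonObj T] (hT : Red.IsTorus T) :
    Van T :=
  K454.ToriVan.isZero_extSh_torus T (Red.Gm Y) hT (K212.GmTor.isTorus_Gm Y)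

theorem van_ga (p : ℕ) [Fact p.Prime] (Y : Scheme.{u}) (h : (p : Γ(Y, ⊤)) = 0) : Van (Red.Ga Y) :=
  Groth.Agent.S13478.result Y p h

end K620.ExtV
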