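import Groth.Agent.TateGlob.K620.MdlTor

/-!
# Spreading out tori

* `exists_isTorus`: a model of a torus split by a finitely presented flat covering is a torus at a later stage;
* `exists_isTorus_field`: the case where the limit is the spectrum of a field.
-/

set_option autoImplicit false
universe u
open CategoryTheory CategoryTheory.Limits MonoidalCategory CartesianMonoidalCategory MonObj GrpObj
  AlgebraicGeometry

namespace K620.GMod

section Split

variable {I : Type u} [SmallCategory I] {D : I ⥤ Scheme.{u}} {c : Cone D} [IsCofiltered I] (hc : IsLimit c)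
  [∀ (i i' : I) (f : i ⟶ i'), IsAffineHom (D.map f)]
  [∀ i, CompactSpace (D.obj i)] [∀ i, QuasiSeparatedSpace (D.obj i)]
  [∀ i, IsSchemeTheoreticallyDominant (c.π.app i)] [∀ i, QuasiCompact (c.π.app i)]
  {i : I} {G : Over c.pt} [GrpObj G] [IsCommMonObj G]

/-- Base change of `D(ℤ^r)`. -/
noncomputable def dsIso {S S' : Scheme.{u}} (f : S' ⟶ S) (r : ℕ) :
    Grp.mk (Red.bc f (Red.DS S (Fin r → ℤ))) ≅ Grp.mk (Red.DS S' (Fin r → ℤ)) :=
  Groth.Agent.Sga3B.DsBc.constIso f (Red.diag (ULift.{u} ℤ) (Fin r → ℤ))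

include hc

open Groth.Agent.Sga3B.TorusBc Groth.Agent.Sga3B.TorusAlgClosed Groth.Agent.Sga3B.AlgBc in
/-- **Tori spread out.** -/
theorem exists_isTorus (M : Mdl (c.π.app i) G) (E : Over c.pt) [Flat E.hom] [Surjective E.hom]
    [LocallyOfFinitePresentation E.hom] [QuasiCompact E.hom] [QuasiSeparated E.hom] (r : ℕ)
    (h : Red.IsSplitTorusWith (Fin r → ℤ) (Red.bc E.hom G)) :
    ∃ (j : I) (f : j ⟶ i), Red.IsTorus (M.mv f).X := by
  obtain ⟨j, a, E₀, h1, h2, h3, h4, h5, ⟨ε⟩⟩ := exists_cover hc E i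
  let H₀ : Over E₀.left := Red.DS E₀.left (Fin r → ℤ)
  obtain ⟨p1, p2, p3, p4⟩ := props_DS E₀.left r
  have hn : ε.hom.left ≫ E.hom = pullback.snd E₀.hom (c.π.app j) := Over.w ε.hom
  have s1 : Red.IsSplitTorusWith (Fin r → ℤ) (Red.bc (pullback.snd E₀.hom (c.π.app j)) G) :=
    isSplitTorusWith_of_iso (Groth.Agent.Sga3B.BcIso.bcCompIso ε.hom.left E.hom G).symm
      (isSplitTorusWith_bc ε.hom.left h) |> fun h' => hn ▸ h'
  obtain ⟨e₁⟩ := s1
  let e₂ := dsIso (pullback.fst E₀.hom (c.π.app j)) r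
  let φ := Groth.Agent.Sga3B.RedIso.und (e₂ ≪≫ e₁.symm)
  obtain ⟨l, f, e, he⟩ := exists_split_stage hc (M.mv a) E₀ H₀ φ (e₂ ≪≫ e₁.symm).hom.hom.isMonHom_hom
  let g := pullback.snd E₀.hom (D.map f)
  have s2 : Red.IsSplitTorusWith (Fin r → ℤ) (Red.bc g ((M.mv a).mv f).X) :=
    isSplitTorusWith_of_iso (Grp.mkIso e he.one_hom he.mul_hom)
      ⟨dsIso (pullback.fst E₀.hom (D.map f)) r⟩
  have s3 : Red.IsTorus ((M.mv a).mv f).X := by
    have g1 : Flat g := inferInstanceAs (Flat (pullback.snd E₀.hom (D.map f)))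
    have g2 : Surjective g := inferInstanceAs (Surjective (pullback.snd E₀.hom (D.map f)))
    have g3 : QuasiCompact g := inferInstanceAs (QuasiCompact (pullback.snd E₀.hom (D.map f)))
    refine isTorus_of_bc (f := g) ?_
      (Groth.Agent.Sga3.H786.TCAff.isTorus_of_isSplitTorusWith s2)
    intro V hV
    exact ⟨g ⁻¹ᵁ V, g.isCompact_preimage hV.isCompact,
      Set.image_preimage_eq _ g2.surj⟩
  obtain ⟨θ, hθ⟩ := eqv_mv_mv M a f
  have hm : IsMonHom θ.hom := hθ.isMonHom
  exact ⟨l, f ≫ a, isTorus_of_iso (Grp.mkIso θ hm.one_hom hm.mul_hom) s3⟩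

end Split

/-- A torus over a field is split by a finitely presented covering. -/
theorem exists_split_field {K : Type u} [Field K] {T : Over (Spec (CommRingCat.of K))} [GrpObj T]
    (hT : Red.IsTorus T) : ∃ (E : Over (Spec (CommRingCat.of K))) (r : ℕ), Flat E.hom ∧
      Surjective E.hom ∧ LocallyOfFinitePresentation E.hom ∧ QuasiCompact E.hom ∧
      QuasiSeparated E.hom ∧ Red.IsSplitTorusWith (Fin r → ℤ) (Red.bc E.hom T) := by
  have s₀ : Spec (CommRingCat.of K) := IsLocalRing.closedPoint K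
  obtain ⟨B, _, v, r, h1, h2, h3⟩ := Groth.Agent.Sga3B.TorusEtSplit.exists_etale_split T hT s₀
  have hsub : Subsingleton (Spec (CommRingCat.of K)) :=
    inferInstanceAs (Subsingleton (PrimeSpectrum K))
  refine ⟨Over.mk v, r, ?_, ⟨fun s => ?_⟩, ?_, ?_, ?_, h3⟩
  · change Flat v
    infer_instance
  · obtain ⟨x, hx⟩ := h2
    exact ⟨x, Subsingleton.elim _ _⟩
  · change LocallyOfFinitePresentation v
    infer_instance
  · change QuasiCompact v
    infer_instance
  · change QuasiSeparated v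
    infer_instance

end K620.GMod
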