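import Groth.Agent.TateGlob.K620.MdlDev
import Groth.Agent.TateGlob.K620.MdlTor2

/-!
# Models over rings of `S`-integers

The results of `MdlLim`, `MdlDev`, `MdlTor2` for the system of the `Spec O_S`, in terms of finite sets of places.
`MdlS S G`: models of `G` over `O_S`; `M.enl h` (`h : S ⊆ T`): base change to `O_T`.
-/

set_option autoImplicit false
universe u
open CategoryTheory CategoryTheory.Limits MonoidalCategory CartesianMonoidalCategory MonObj GrpObj
  AlgebraicGeometry Opposite FunFld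

namespace K620.GMod

open K620.Sys K620.MdlDev Groth.Agent.Ega43.LimitDescend

variable {k K : Type u} [Field k] [Field K] [Algebra k K]

/-- Models of `G` over `O_S`. -/
abbrev MdlS (S : Set (Place k K)) (G : Over (Spec (CommRingCat.of K))) [GrpObj G] : Type (u + 1) :=
  Mdl (Spec.map (CommRingCat.ofHom (AdFn.SInt.toK S))) G

/-- `Spec O_T → Spec O_S` for `S ⊆ T`. -/
noncomputable abbrev inclS {S T : Set (Place k K)} (h : S ⊆ T) :
    Spec (CommRingCat.of (AdFn.SInt T)) ⟶ Spec (CommRingCat.of (AdFn.SInt S)) :=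
  Spec.map (CommRingCat.ofHom (incl h).toRingHom)

theorem toK_inclS {S T : Set (Place k K)} (h : S ⊆ T) :
    Spec.map (CommRingCat.ofHom (AdFn.SInt.toK T)) ≫ inclS h =
      Spec.map (CommRingCat.ofHom (AdFn.SInt.toK S)) := by
  rw [← Spec.map_comp, ← CommRingCat.ofHom_comp]
  rfl

variable {G H L : Over (Spec (CommRingCat.of K))} [GrpObj G] [GrpObj H] [GrpObj L]
  {S T U : Set (Place k K)}

/-- Enlarging the set of places. -/
noncomputable abbrev Mdl.enl (M : MdlS S G) (h : S ⊆ T) : MdlS T G := M.bc (inclS h) (toK_inclS h)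

instance dominant_toK (S : Set (Place k K)) :
    IsSchemeTheoreticallyDominant (Spec.map (CommRingCat.ofHom (AdFn.SInt.toK S))) := by
  have : Fact (Function.Injective (AdFn.SInt.toK S)) := ⟨Subtype.val_injective⟩
  exact Groth.Agent.Models.WeilPts.schDominant_of_injective (AdFn.SInt.toK S)

theorem eqv_enl_enl (M : MdlS S G) (h : S ⊆ T) (h' : T ⊆ U) :
    Eqv ((M.enl h).enl h') (M.enl (h.trans h')) :=
  Eqv.bc_bc M _ _ _ _ (by rw [← Spec.map_comp, ← CommRingCat.ofHom_comp]; rfl) _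

variable [FinPoles k K]

/-- The index attached to a finite nonempty set of places. -/
abbrev idx (hS : S.Finite) (hne : S.Nonempty) : (Idx k K)ᵒᵖ := op ⟨S, hS, hne⟩

omit [FinPoles k K] in
theorem idx_le {S : Set (Place k K)} {hS : S.Finite} {hne : S.Nonempty} {i : (Idx k K)ᵒᵖ}
    (f : i ⟶ idx hS hne) : S ⊆ i.unop.1 := leOfHom f.unop

/-- Existence of models, over `O_S` with `S` containing a given finite set. -/
theorem exists_mdlS (G : Over (Spec (CommRingCat.of K))) [GrpObj G] [IsCommMonObj G]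
    [IsSeparated G.hom] [LocallyOfFiniteType G.hom] [QuasiCompact G.hom] {S₀ : Set (Place k K)}
    (h₀ : S₀.Finite) :
    ∃ (S : Set (Place k K)) (_ : S.Finite) (_ : S.Nonempty) (_ : S₀ ⊆ S), Nonempty (MdlS S G) := by
  have h1 : Flat G.hom := inferInstance
  have h2 : LocallyOfFinitePresentation G.hom := inferInstance
  obtain ⟨v⟩ := ‹FinPoles k K›.ne
  obtain ⟨i, f, hM⟩ := exists_mdl (isLimit k K) G
    (idx (S := S₀ ∪ {v}) (h₀.union (Set.finite_singleton v)) ⟨v, Or.inr rfl⟩)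
  exact ⟨i.unop.1, i.unop.2.1, i.unop.2.2, Set.subset_union_left.trans (idx_le f), hM⟩

/-- Homomorphisms extend. -/
theorem exists_liftS (hS : S.Finite) (hne : S.Nonempty) (M : MdlS S G) (M' : MdlS S H) (u : G ⟶ H) :
    ∃ (T : Set (Place k K)) (_ : T.Finite) (h : S ⊆ T) (u' : (M.enl h).X ⟶ (M'.enl h).X),
      IsLift (M.enl h) (M'.enl h) u u' := by
  obtain ⟨j, f, u', hu⟩ := exists_lift (isLimit k K) (i := idx hS hne) M M' u
  exact ⟨j.unop.1, j.unop.2.1, idx_le f, u', hu⟩

/-- Homomorphisms with a property which descends along limits extend. -/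
theorem exists_liftsS {P : MorphismProperty Scheme.{u}} [P.IsStableUnderBaseChange]
    (hP : DescendsLim P) (hS : S.Finite) (hne : S.Nonempty) (M : MdlS S G) (M' : MdlS S H) (u : G ⟶ H)
    (h : P u.left) : ∃ (T : Set (Place k K)) (_ : T.Finite) (h : S ⊆ T), Lifts P (M.enl h) (M'.enl h) u := by
  obtain ⟨j, f, hu⟩ := exists_lifts (isLimit k K) hP (i := idx hS hne) M M' u h
  exact ⟨j.unop.1, j.unop.2.1, idx_le f, hu⟩

/-- Properties of the group which descend along limits. -/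
theorem exists_propS {P : MorphismProperty Scheme.{u}} (hP : DescendsLim P) (hS : S.Finite)
    (hne : S.Nonempty) (M : MdlS S G) (h : P G.hom) :
    ∃ (T : Set (Place k K)) (_ : T.Finite) (h : S ⊆ T), P (M.enl h).X.hom := by
  obtain ⟨j, f, hu⟩ := exists_prop_hom (isLimit k K) hP (i := idx hS hne) M h
  exact ⟨j.unop.1, j.unop.2.1, idx_le f, hu⟩

/-- Any two models agree after enlarging the set of places. -/
theorem exists_eqvS (hS : S.Finite) (hneS : S.Nonempty) (hT : T.Finite) (hneT : T.Nonempty)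
    (M : MdlS S G) (M' : MdlS T G) :
    ∃ (U : Set (Place k K)) (_ : U.Finite) (h : S ⊆ U) (h' : T ⊆ U), Eqv (M.enl h) (M'.enl h') := by
  obtain ⟨l, f, g, h⟩ := exists_eqv (isLimit k K) (i := idx hS hneS) (j := idx hT hneT) M M'
  exact ⟨l.unop.1, l.unop.2.1, idx_le f, idx_le g, h⟩

/-- Exact sequences extend. -/
theorem exists_exactS (hS : S.Finite) (hne : S.Nonempty) (M : MdlS S G) (M' : MdlS S H) (M'' : MdlS S L)
    (u : G ⟶ H) (v : H ⟶ L) [IsMonHom u] [IsMonHom v] (hk : AlgGrp.IsKernel u v) (hfl : Flat v.left)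
    (hs : Surjective v.left) :
    ∃ (T : Set (Place k K)) (_ : T.Finite) (h : S ⊆ T),
      ExactAt (M.enl h) (M'.enl h) (M''.enl h) u v := by
  obtain ⟨j, f, hu⟩ := exists_exact (isLimit k K) (i := idx hS hne) M M' M'' u v hk hfl hs
  exact ⟨j.unop.1, j.unop.2.1, idx_le f, hu⟩

/-- Models of tori are tori after enlarging the set of places. -/
theorem exists_isTorusS [IsCommMonObj G] (hG : Red.IsTorus G) (hS : S.Finite) (hne : S.Nonempty)
    (M : MdlS S G) : ∃ (T : Set (Place k K)) (_ : T.Finite) (h : S ⊆ T), Red.IsTorus (M.enl h).X := by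
  obtain ⟨E, r, h1, h2, h3, h4, h5, h6⟩ := exists_split_field hG
  obtain ⟨j, f, hu⟩ := exists_isTorus (isLimit k K) (i := idx hS hne) M E r h6
  exact ⟨j.unop.1, j.unop.2.1, idx_le f, hu⟩

omit [FinPoles k K] in
/-- Combining two eventual properties. -/
theorem ev_and {P Q : ∀ T : Set (Place k K), S ⊆ T → Prop}
    (hP : ∀ (T T' : Set (Place k K)) (h : S ⊆ T) (h' : T ⊆ T'), P T h → P T' (h.trans h'))
    (hQ : ∀ (T T' : Set (Place k K)) (h : S ⊆ T) (h' : T ⊆ T'), Q T h → Q T' (h.trans h'))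
    (h₁ : ∃ (T : Set (Place k K)) (_ : T.Finite) (h : S ⊆ T), P T h)
    (h₂ : ∃ (T : Set (Place k K)) (_ : T.Finite) (h : S ⊆ T), Q T h) :
    ∃ (T : Set (Place k K)) (_ : T.Finite) (h : S ⊆ T), P T h ∧ Q T h := by
  obtain ⟨T, hT, h, hp⟩ := h₁
  obtain ⟨T', hT', h', hq⟩ := h₂
  exact ⟨T ∪ T', hT.union hT', h.trans Set.subset_union_left,
    hP _ _ h Set.subset_union_left hp, hQ _ _ h' Set.subset_union_right hq⟩

omit [FinPoles k K] in
theorem ExactAt.enl {M : MdlS S G} {M' : MdlS S H} {M'' : MdlS S L} {u : G ⟶ H} {v : H ⟶ L}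
    [IsMonHom v] {h : S ⊆ T} (hx : ExactAt (M.enl h) (M'.enl h) (M''.enl h) u v) (h' : T ⊆ U) :
    ExactAt (M.enl (h.trans h')) (M'.enl (h.trans h')) (M''.enl (h.trans h')) u v :=
  (hx.bc (inclS h') (toK_inclS h')).of_eqv (eqv_enl_enl M h h') (eqv_enl_enl M' h h')
    (eqv_enl_enl M'' h h')

omit [FinPoles k K] in
theorem Lifts.enl {P : MorphismProperty Scheme.{u}} [P.IsStableUnderBaseChange] {M : MdlS S G}
    {M' : MdlS S H} {u : G ⟶ H} {h : S ⊆ T} (hx : Lifts P (M.enl h) (M'.enl h) u) (h' : T ⊆ U) :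
    Lifts P (M.enl (h.trans h')) (M'.enl (h.trans h')) u := by
  have := MorphismProperty.IsStableUnderBaseChange.respectsIso (P := P)
  exact (hx.bc (inclS h') (toK_inclS h')).of_eqv (eqv_enl_enl M h h') (eqv_enl_enl M' h h')

omit [FinPoles k K] in
/-- Properties of group schemes pass to larger sets of places. -/
theorem prop_enl {Q : ∀ {B : Scheme.{u}} (X : Over B) [GrpObj X] [IsCommMonObj X], Prop}
    (hiso : ∀ {B : Scheme.{u}} {X X' : Over B} [GrpObj X] [IsCommMonObj X] [GrpObj X'] [IsCommMonObj X']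
      (e : X ≅ X'), IsMonHom e.hom → Q X → Q X')
    (hbc : ∀ {B B' : Scheme.{u}} {X : Over B} [GrpObj X] [IsCommMonObj X] (b : B' ⟶ B),
      Q X → Q (Red.bc b X)) {M : MdlS S G} {h : S ⊆ T} (hx : Q (M.enl h).X) (h' : T ⊆ U) :
    Q (M.enl (h.trans h')).X := by
  obtain ⟨θ, hθ⟩ := eqv_enl_enl M h h'
  exact hiso θ hθ.isMonHom (hbc (inclS h') hx)

end K620.GMod
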