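import Groth.Agent.TateGlob.K620.Mdl
import Groth.Agent.TateLoc.K809.PtsPull
import Groth.Agent.TateLoc.K620.HopfSeq
import Groth.Agent.Flat2E.Thick

/-!
# Models and sheaves of points

* `ptsPull_nat`: naturality of `K809.PtsPull.ptsPull`;
* `modelIso`: the sheaf of points of a model restricts to that of the generic fibre, compatibly with
  homomorphisms (`modelIso_nat`);
* `shortExact_of_exactAt`: the exact sequence of models gives an exact sequence of fppf sheaves.
-/

set_option autoImplicit false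
universe u
open CategoryTheory CategoryTheory.Limits MonoidalCategory CartesianMonoidalCategory MonObj GrpObj
  AlgebraicGeometry Opposite

noncomputable section

namespace K620.GMod

section Pull

variable (K : Precoverage Scheme.{u}) {S V : Scheme.{u}} [(QuotSh.J K S).Subcanonical]
  [(QuotSh.J K V).Subcanonical] (h : V ⟶ S) {G H : Over S} [GrpObj G] [IsCommMonObj G] [GrpObj H]
  [IsCommMonObj H]

/-- Naturality of the restriction isomorphism. -/
theorem ptsPull_nat (φ : G ⟶ H) [IsMonHom φ] :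
    (BigSite.pullBig K h AddCommGrpCat.{u + 1}).map (CGrpSh.ptsMap K φ) ≫
      (K809.PtsPull.ptsPull K h H).hom =
    (K809.PtsPull.ptsPull K h G).hom ≫ CGrpSh.ptsMap K ((Over.pullback h).map φ) := by
  apply Sheaf.hom_ext
  ext T x
  apply ULift.ext
  exact congrArg Additive.ofMul (Groth.Agent.Sga3B.BcPts.bcEquiv_comp h x.down.toMul φ)

/-- The isomorphism of sheaves of points attached to an isomorphism of groups. -/
def ptsIso {G H : Over V} [GrpObj G] [IsCommMonObj G] [GrpObj H]
    [IsCommMonObj H] (e : G ≅ H) [IsMonHom e.hom] : CGrpSh.pts K G ≅ CGrpSh.pts K H where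
  hom := CGrpSh.ptsMap K e.hom
  inv := CGrpSh.ptsMap K e.inv
  hom_inv_id := by
    rw [← CGrpSh.ptsMap_comp]
    simp_rw [e.hom_inv_id]
    exact CGrpSh.ptsMap_id _
  inv_hom_id := by
    rw [← CGrpSh.ptsMap_comp]
    simp_rw [e.inv_hom_id]
    exact CGrpSh.ptsMap_id _

end Pull

variable (K : Precoverage Scheme.{u}) {N B : Scheme.{u}} [(QuotSh.J K N).Subcanonical]
  [(QuotSh.J K B).Subcanonical] {t : N ⟶ B} {G H L : Over N} [GrpObj G] [GrpObj H] [GrpObj L]
  [IsCommMonObj G] [IsCommMonObj H] [IsCommMonObj L]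

/-- The sheaf of points of a model restricts to that of the generic fibre. -/
def modelIso (M : Mdl t G) :
    (BigSite.pullBig K t AddCommGrpCat.{u + 1}).obj (CGrpSh.pts K M.X) ≅ CGrpSh.pts K G :=
  K809.PtsPull.ptsPull K t M.X ≪≫ ptsIso K M.e

theorem modelIso_nat (M : Mdl t G) (M' : Mdl t H) (u : G ⟶ H) [IsMonHom u] (u' : M.X ⟶ M'.X)
    [IsMonHom u'] (hu : IsLift M M' u u') :
    (BigSite.pullBig K t AddCommGrpCat.{u + 1}).map (CGrpSh.ptsMap K u') ≫ (modelIso K M').hom =
      (modelIso K M).hom ≫ CGrpSh.ptsMap K u := by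
  simp only [modelIso, Iso.trans_hom, ptsIso]
  rw [← Category.assoc, ptsPull_nat, Category.assoc, Category.assoc, ← CGrpSh.ptsMap_comp,
    ← CGrpSh.ptsMap_comp]
  congr 1
  have : (Over.pullback t).map u' ≫ M'.e.hom = M.e.hom ≫ u := hu
  simp_rw [this]

omit [IsCommMonObj G] [IsCommMonObj H] [IsCommMonObj L] in
/-- The exact sequence of models attached to a short exact sequence of generic fibres. -/
theorem exists_seq [IsSchemeTheoreticallyDominant t] [QuasiCompact t] {M : Mdl t G} {M' : Mdl t H}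
    {M'' : Mdl t L} {u : G ⟶ H} {v : H ⟶ L} [IsMonHom u] [IsMonHom v]
    (h : ExactAt M M' M'' u v) :
    ∃ (u' : M.X ⟶ M'.X) (v' : M'.X ⟶ M''.X) (_ : IsMonHom u') (_ : IsMonHom v') (w : u' ≫ v' = 1),
      IsLift M M' u u' ∧ IsLift M' M'' v v' ∧
        (CGrpSh.seq Scheme.fppfPrecoverage u' v' w).ShortExact := by
  obtain ⟨u', v', hu, hv, hk, hfl, hs⟩ := h
  have h1 : IsMonHom u' := hu.isMonHom
  have h2 : IsMonHom v' := hv.isMonHom
  have c0 : v'.left ≫ M''.X.hom = M'.X.hom := Over.w v'
  have c1 : LocallyOfFinitePresentation v'.left := by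
    have : LocallyOfFinitePresentation (v'.left ≫ M''.X.hom) := by rw [c0]; infer_instance
    exact Groth.Agent.Flat2E.Thick.locallyOfFinitePresentation_of_comp _ M''.X.hom
  have w : u' ≫ v' = 1 := hk.w
  exact ⟨u', v', h1, h2, w, hu, hv, K620.HopfSeq.shortExact_of_isKernel u' v' hk w⟩

end K620.GMod
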