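import Groth.Agent.TateGlob.K620.DualSeq
import Groth.Agent.TateGlob.K620.Van
import Groth.Agent.ModPair.K973.EtaleDesc
import Groth.Agent.Sga7.H758.FfEpi
import Mathlib.RingTheory.Etale.Field

/-!
# Models of tori split by a finite etale covering; exact sequences of models

* `exists_cover_prop`: models of finitely presented schemes with a property descending along limits;
* `exists_fEt_splitS`: a model of a torus is split by a finite etale surjective `E → Spec O_T`, `T` large.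
-/

set_option autoImplicit false
universe u
open CategoryTheory CategoryTheory.Limits MonoidalCategory CartesianMonoidalCategory MonObj GrpObj
  AlgebraicGeometry

namespace K620.GMod

open Groth.Agent.Ega43.LimitDescend Groth.Agent.Sga3.H515 GrpModel GrpStage BcRaw

section Gen

variable {I : Type u} [SmallCategory I] {D : I ⥤ Scheme.{u}} {c : Cone D} [IsCofiltered I] (hc : IsLimit c)
  [∀ (i i' : I) (f : i ⟶ i'), IsAffineHom (D.map f)]
  [∀ i, CompactSpace (D.obj i)] [∀ i, QuasiSeparatedSpace (D.obj i)]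
  {i : I} {G : Over c.pt} [GrpObj G] [IsCommMonObj G]

include hc

/-- Models of finitely presented schemes with a property. -/
theorem exists_cover_prop {P : MorphismProperty Scheme.{u}} [P.IsStableUnderBaseChange]
    (hP : DescendsLim P) (E : Over c.pt) [LocallyOfFinitePresentation E.hom] [QuasiCompact E.hom]
    [QuasiSeparated E.hom] (h : P E.hom) (i : I) :
    ∃ (j : I) (_ : j ⟶ i) (E₀ : Over (D.obj j)), P E₀.hom ∧ LocallyOfFinitePresentation E₀.hom ∧
      QuasiCompact E₀.hom ∧ QuasiSeparated E₀.hom ∧ Nonempty (Red.bc (c.π.app j) E₀ ≅ E) := by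
  obtain ⟨i₁, ⟨M₁⟩⟩ := Groth.Agent.CalgA.LimFP.Mdl.exists_model hc E.hom
  obtain ⟨j, a₁, a₂, -⟩ := IsCofilteredOrEmpty.cone_objs i₁ i
  let M := M₁.bc a₁
  let X : Over (D.obj j) := Over.mk M.f
  have l1 : LocallyOfFinitePresentation X.hom := M.lfp
  have l2 : QuasiCompact X.hom := M.qc
  have l3 : QuasiSeparated X.hom := M.qs
  let ε : Red.bc (c.π.app j) X ≅ E := mdlIso M
  obtain ⟨k, hk⟩ := exists_stage_prop hc hP ε h
  exact ⟨k.left, k.hom ≫ a₂, Red.bc (D.map k.hom) X, hk, bc_lfp _ _ l1, bc_qc _ _ l2, bc_qs _ _ l3,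
    ⟨ActBC.bcCompIso (c.π.app k.left) (D.map k.hom) X (c.w k.hom) ≪≫ ε⟩⟩

variable [∀ i, IsSchemeTheoreticallyDominant (c.π.app i)] [∀ i, QuasiCompact (c.π.app i)]

open Groth.Agent.Sga3B.TorusBc Groth.Agent.Sga3B.TorusAlgClosed Groth.Agent.Sga3B.AlgBc in
/-- **Tori spread out**, with the splitting covering. -/
theorem exists_split_cover {P : MorphismProperty Scheme.{u}} [P.IsStableUnderBaseChange]
    (hP : DescendsLim P) (hPf : ∀ {X Y : Scheme.{u}} (f : X ⟶ Y), P f → Flat f)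
    (M : Mdl (c.π.app i) G) (E : Over c.pt) (hE : P E.hom)
    [LocallyOfFinitePresentation E.hom] [QuasiCompact E.hom] [QuasiSeparated E.hom] (r : ℕ)
    (h : Red.IsSplitTorusWith (Fin r → ℤ) (Red.bc E.hom G)) :
    ∃ (j : I) (f : j ⟶ i) (F : Over (D.obj j)), P F.hom ∧
      Red.IsSplitTorusWith (Fin r → ℤ) (Red.bc F.hom (M.mv f).X) := by
  obtain ⟨j, a, E₀, h1, h3, h4, h5, ⟨ε⟩⟩ := exists_cover_prop hc hP E hE i
  have h1' : Flat E₀.hom := hPf _ h1
  let H₀ : Over E₀.left := Red.DS E₀.left (Fin r → ℤ)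
  obtain ⟨p1, p2, p3, p4⟩ := props_DS E₀.left r
  have hn : ε.hom.left ≫ E.hom = pullback.snd E₀.hom (c.π.app j) := Over.w ε.hom
  have s1 : Red.IsSplitTorusWith (Fin r → ℤ) (Red.bc (pullback.snd E₀.hom (c.π.app j)) G) :=
    isSplitTorusWith_of_iso (Groth.Agent.Sga3B.BcIso.bcCompIso ε.hom.left E.hom G).symm
      (isSplitTorusWith_bc ε.hom.left h) |> fun h' => hn ▸ h'
  obtain ⟨e₁⟩ := s1
  let e₂ := dsIso (pullback.fst E₀.hom (c.π.app j)) r
  let φ := Groth.Agent.Sga3B.RedIso.und (e₂ ≪≫ e₁.symm)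
  obtain ⟨l, f, e, he⟩ := exists_split_stage hc (M.mv a) E₀ H₀ φ (e₂ ≪≫ e₁.symm).hom.hom.isMonHom_hom
  let g := pullback.snd E₀.hom (D.map f)
  have s2 : Red.IsSplitTorusWith (Fin r → ℤ) (Red.bc g ((M.mv a).mv f).X) :=
    isSplitTorusWith_of_iso (Grp.mkIso e he.one_hom he.mul_hom)
      ⟨dsIso (pullback.fst E₀.hom (D.map f)) r⟩
  obtain ⟨θ, hθ⟩ := eqv_mv_mv M a f
  have hm : IsMonHom θ.hom := hθ.isMonHom
  have hm' : IsMonHom ((Over.pullback g).mapIso θ).hom :=
    inferInstanceAs (IsMonHom ((Over.pullback g).map θ.hom))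
  exact ⟨l, f ≫ a, Over.mk g, P.pullback_snd _ _ h1,
    isSplitTorusWith_of_iso (Grp.mkIso ((Over.pullback g).mapIso θ) hm'.one_hom hm'.mul_hom) s2⟩

end Gen

/-- Finite etale surjective morphisms. -/
def FES : MorphismProperty Scheme.{u} := @IsFinite ⊓ (@Etale ⊓ @Surjective)

instance : FES.{u}.IsStableUnderBaseChange := by
  have h₁ : MorphismProperty.IsStableUnderBaseChange (@IsFinite.{u}) := inferInstance
  have h₂ : MorphismProperty.IsStableUnderBaseChange (@Etale.{u}) := inferInstance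
  have h₃ : MorphismProperty.IsStableUnderBaseChange (@Surjective.{u}) := inferInstance
  have h₄ : MorphismProperty.IsStableUnderBaseChange
    ((@Etale : MorphismProperty Scheme.{u}) ⊓ @Surjective) := inferInstance
  exact inferInstanceAs (MorphismProperty.IsStableUnderBaseChange
    ((@IsFinite : MorphismProperty Scheme.{u}) ⊓ (@Etale ⊓ @Surjective)))

theorem descendsLim_FES : DescendsLim FES.{u} :=
  K973.EtaleDesc.descendsLim_inf K286.Desc.descendsLim_isFinite
    (K973.EtaleDesc.descendsLim_inf K973.EtaleDesc.descendsLim_etale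
      K286.Desc.descendsLim_surjective)

/-- An affine etale scheme over a field is finite. -/
theorem isFinite_of_etale {K : Type u} [Field K] {B : Type u} [CommRing B]
    (v : Spec (CommRingCat.of B) ⟶ Spec (CommRingCat.of K)) [Etale v] : IsFinite v := by
  obtain ⟨φ, rfl⟩ := Spec.map_surjective v
  have h1 : φ.hom.Etale := (HasRingHomProperty.Spec_iff (P := @Etale)).mp inferInstance
  rw [IsFinite.SpecMap_iff]
  let _ : Algebra K B := φ.hom.toAlgebra
  have h2 : Algebra.Etale K B := h1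
  have h3 : Module.Finite K B := Algebra.FormallyUnramified.finite_of_free K B
  exact h3

/-- A torus over a field is split by a finite etale covering. -/
theorem exists_split_field' {K : Type u} [Field K] {T : Over (Spec (CommRingCat.of K))} [GrpObj T]
    (hT : Red.IsTorus T) : ∃ (E : Over (Spec (CommRingCat.of K))) (r : ℕ), FES E.hom ∧
      LocallyOfFinitePresentation E.hom ∧ QuasiCompact E.hom ∧
      QuasiSeparated E.hom ∧ Red.IsSplitTorusWith (Fin r → ℤ) (Red.bc E.hom T) := by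
  have s₀ : Spec (CommRingCat.of K) := IsLocalRing.closedPoint K
  obtain ⟨B, _, v, r, h1, h2, h3⟩ := Groth.Agent.Sga3B.TorusEtSplit.exists_etale_split T hT s₀
  have hsub : Subsingleton (Spec (CommRingCat.of K)) :=
    inferInstanceAs (Subsingleton (PrimeSpectrum K))
  refine ⟨Over.mk v, r, ⟨isFinite_of_etale v, h1, ⟨fun s => ?_⟩⟩, ?_, ?_, ?_, h3⟩
  · obtain ⟨x, hx⟩ := h2
    exact ⟨x, Subsingleton.elim _ _⟩
  · change LocallyOfFinitePresentation v
    infer_instance
  · change QuasiCompact v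
    infer_instance
  · change QuasiSeparated v
    infer_instance

section S

open K620.Sys K620.MdlDev FunFld K620.ExtV K620.DualSeq

variable {k K : Type u} [Field k] [Field K] [Algebra k K] [FinPoles k K]

/-- Models of tori are split by a finite etale covering after enlarging the set of places. -/
theorem exists_fEt_splitS {G : Over (Spec (CommRingCat.of K))} [GrpObj G] [IsCommMonObj G]
    {S : Set (Place k K)} (hG : Red.IsTorus G) (hS : S.Finite) (hne : S.Nonempty) (M : MdlS S G) :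
    ∃ (T : Set (Place k K)) (_ : T.Finite) (h : S ⊆ T)
      (E : Over (Spec (CommRingCat.of (AdFn.SInt T)))) (r : ℕ), IsFinite E.hom ∧ Etale E.hom ∧
        Surjective E.hom ∧ Red.IsSplitTorusWith (Fin r → ℤ) (Red.bc E.hom (M.enl h).X) := by
  obtain ⟨E, r, h1, h2, h3, h4, h5⟩ := exists_split_field' hG
  obtain ⟨j, f, F, hF, hs⟩ := exists_split_cover (isLimit k K) descendsLim_FES
    (fun f hf => by
      have : Etale f := hf.2.1
      infer_instance) (i := idx hS hne) M E h1 r h5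
  exact ⟨j.unop.1, j.unop.2.1, idx_le f, F, r, hF.1, hF.2.1, hF.2.2, hs⟩

omit [FinPoles k K] in
/-- Stability of the splitting under enlarging the set of places. -/
theorem fEt_split_enl {G : Over (Spec (CommRingCat.of K))} [GrpObj G] [IsCommMonObj G]
    {S T U : Set (Place k K)} {M : MdlS S G} {h : S ⊆ T} (h' : T ⊆ U)
    (hx : ∃ (E : Over (Spec (CommRingCat.of (AdFn.SInt T)))) (r : ℕ), IsFinite E.hom ∧ Etale E.hom ∧
        Surjective E.hom ∧ Red.IsSplitTorusWith (Fin r → ℤ) (Red.bc E.hom (M.enl h).X)) :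
    ∃ (E : Over (Spec (CommRingCat.of (AdFn.SInt U)))) (r : ℕ), IsFinite E.hom ∧ Etale E.hom ∧
        Surjective E.hom ∧ Red.IsSplitTorusWith (Fin r → ℤ) (Red.bc E.hom (M.enl (h.trans h')).X) := by
  obtain ⟨E, r, h1, h2, h3, h4⟩ := hx
  let g := pullback.snd E.hom (inclS h')
  have hg : g ≫ inclS h' = pullback.fst E.hom (inclS h') ≫ E.hom := pullback.condition.symm
  refine ⟨Over.mk g, r, MorphismProperty.pullback_snd (P := @IsFinite) _ _ h1,
    MorphismProperty.pullback_snd (P := @Etale) _ _ h2,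
    MorphismProperty.pullback_snd (P := @Surjective) _ _ h3, ?_⟩
  obtain ⟨θ, hθ⟩ := eqv_enl_enl M h h'
  have hm : IsMonHom θ.hom := hθ.isMonHom
  have hm' : IsMonHom ((Over.pullback g).mapIso θ).hom :=
    inferInstanceAs (IsMonHom ((Over.pullback g).map θ.hom))
  refine Groth.Agent.Sga3B.TorusBc.isSplitTorusWith_of_iso
    (Grp.mkIso ((Over.pullback g).mapIso θ) hm'.one_hom hm'.mul_hom) ?_
  refine Groth.Agent.Sga3B.TorusBc.isSplitTorusWith_of_iso
    (Groth.Agent.Sga3B.BcIso.bcCompIso g (inclS h') (M.enl h).X) ?_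
  rw [hg]
  exact Groth.Agent.Sga3B.TorusBc.isSplitTorusWith_of_iso
    (Groth.Agent.Sga3B.BcIso.bcCompIso (pullback.fst E.hom (inclS h')) E.hom (M.enl h).X).symm
    (Groth.Agent.Sga3B.TorusAlgClosed.isSplitTorusWith_bc _ h4)

variable (p : ℕ) [Fact p.Prime] [CharP k p] {G₁ G₂ G₃ : Over (Spec (CommRingCat.of K))} [GrpObj G₁]
    [IsCommMonObj G₁] [GrpObj G₂] [IsCommMonObj G₂] [GrpObj G₃] [IsCommMonObj G₃] [IsAffine G₁.left]
    [IsAffine G₂.left] [IsAffine G₃.left] [LocallyOfFiniteType G₁.hom] [LocallyOfFiniteType G₂.hom]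
    [LocallyOfFiniteType G₃.hom]

include p in
/-- Every model `X` of an affine group has `EV X` after enlarging the set of places. -/
theorem exists_evS {S : Set (Place k K)} (hS : S.Finite) (hne : S.Nonempty) (M : MdlS S G₁) :
    ∃ (T : Set (Place k K)) (_ : T.Finite) (h : S ⊆ T), EV (M.enl h).X :=
  exists_ev (p := p) (fun T _ _ hT => van_torus T hT) (fun Y hY => van_ga p Y hY) G₁ hS hne M

include p in
/-- Models of an exact sequence of affine groups: exact after enlarging the set of places, with vanishing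
`𝓔xt¹(-, 𝔾_m)`. -/
theorem exists_seqS (f : G₁ ⟶ G₂) (g : G₂ ⟶ G₃) [IsMonHom f] [IsMonHom g] (hk : AlgGrp.IsKernel f g)
    (hfl : Flat g.left) (hs : Surjective g.left) {S : Set (Place k K)} (hS : S.Finite)
    (hne : S.Nonempty) (M₁ : MdlS S G₁) (M₂ : MdlS S G₂) (M₃ : MdlS S G₃) :
    ∃ (T : Set (Place k K)) (_ : T.Finite) (h : S ⊆ T),
      ExactAt (M₁.enl h) (M₂.enl h) (M₃.enl h) f g ∧
        EV (M₁.enl h).X ∧ EV (M₂.enl h).X ∧ EV (M₃.enl h).X := by
  refine ev_and (fun T T' h h' hx => hx.enl h')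
    (fun T T' h h' hx => ⟨prop_enl (fun e he hx => hx.of_iso e he) (fun b hx => hx.bc b) hx.1 h',
      prop_enl (fun e he hx => hx.of_iso e he) (fun b hx => hx.bc b) hx.2.1 h',
      prop_enl (fun e he hx => hx.of_iso e he) (fun b hx => hx.bc b) hx.2.2 h'⟩)
    (exists_exactS hS hne M₁ M₂ M₃ f g hk hfl hs) ?_
  refine ev_and
    (fun T T' h h' hx => prop_enl (fun e he hx => hx.of_iso e he) (fun b hx => hx.bc b) hx h')
    (fun T T' h h' hx => ⟨prop_enl (fun e he hx => hx.of_iso e he) (fun b hx => hx.bc b) hx.1 h',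
      prop_enl (fun e he hx => hx.of_iso e he) (fun b hx => hx.bc b) hx.2 h'⟩)
    (exists_evS p hS hne M₁) ?_
  exact ev_and
    (fun T T' h h' hx => prop_enl (fun e he hx => hx.of_iso e he) (fun b hx => hx.bc b) hx h')
    (fun T T' h h' hx => prop_enl (fun e he hx => hx.of_iso e he) (fun b hx => hx.bc b) hx h')
    (exists_evS p hS hne M₂) (exists_evS p hS hne M₃)

omit [FinPoles k K] in
theorem isFinite_enl {G : Over (Spec (CommRingCat.of K))} [GrpObj G] {S T U : Set (Place k K)}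
    {M : MdlS S G} {h : S ⊆ T} (h' : T ⊆ U) (hx : IsFinite (M.enl h).X.hom) :
    IsFinite (M.enl (h.trans h')).X.hom := by
  obtain ⟨θ, hθ⟩ := eqv_enl_enl M h h'
  have h1 : IsFinite ((M.enl h).enl h').X.hom :=
    inferInstanceAs (IsFinite (pullback.snd (M.enl h).X.hom (inclS h')))
  have h2 : θ.inv.left ≫ ((M.enl h).enl h').X.hom = (M.enl (h.trans h')).X.hom := Over.w θ.inv
  have h3 : IsIso θ.inv.left := inferInstanceAs (IsIso ((Over.forget _).map θ.inv))
  rw [← h2]
  infer_instance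

end S

open K620.Sys K620.MdlDev FunFld K620.ExtV K620.DualSeq in
/-- **Models of an almost torus**: an exact sequence `1 → 𝒯 → 𝒢 → 𝒬 → 1` of models over `O_S` with `𝒯` a torus split by
a finite etale covering, `𝒬` finite and short exact dual sequence; the same over every larger set of places
(`ExactAt.enl`, `fEt_split_enl`, `isFinite_enl`, `EV.bc`). -/
theorem exists_almostTorus {k K : Type u} [Field k] [Field K] [Algebra k K] [FinPoles k K] (p : ℕ)
    [Fact p.Prime] [CharP k p] (G : Over (Spec (CommRingCat.of K))) [GrpObj G] [IsCommMonObj G]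
    [IsAffine G.left] [LocallyOfFiniteType G.hom]
    (hAT : ∃ (T Q : Over (Spec (CommRingCat.of K))) (_ : GrpObj T) (_ : GrpObj Q) (j : T ⟶ G) (q : G ⟶ Q)
      (_ : IsMonHom j) (_ : IsMonHom q), Mono j ∧ Red.IsTorus T ∧ AlgGrp.IsKernel j q ∧ Flat q.left ∧
        Surjective q.left ∧ IsFinite Q.hom)
    {S₀ : Set (Place k K)} (hS₀ : S₀.Finite) (M₀ : MdlS S₀ G) :
    ∃ (T Q : Over (Spec (CommRingCat.of K))) (_ : GrpObj T) (_ : IsCommMonObj T) (_ : GrpObj Q)
      (_ : IsCommMonObj Q) (j : T ⟶ G) (q : G ⟶ Q) (_ : IsMonHom j) (_ : IsMonHom q)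
      (_ : Red.IsTorus T) (S : Set (Place k K)) (_ : S.Finite) (_ : S.Nonempty) (h : S₀ ⊆ S) (MT : MdlS S T)
      (MQ : MdlS S Q), ExactAt MT (M₀.enl h) MQ j q ∧ EV MT.X ∧ EV (M₀.enl h).X ∧ EV MQ.X ∧
        IsFinite MQ.X.hom ∧ ∃ (E : Over (Spec (CommRingCat.of (AdFn.SInt S)))) (r : ℕ),
          IsFinite E.hom ∧ Etale E.hom ∧ Surjective E.hom ∧
          Red.IsSplitTorusWith (Fin r → ℤ) (Red.bc E.hom MT.X) := by
  obtain ⟨T, Q, _, _, j, q, _, _, hj, hT, hk, hfl, hs, hQ⟩ := hAT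
  have cT : IsCommMonObj T := Groth.Agent.Sga3.H830.CommAux.isCommMonObj_of_mono j
  have hepi : Epi (q ⊗ₘ q) := Groth.Agent.Sga7.H758.FfEpi.epi_tensor q
  have cQ : IsCommMonObj Q := Groth.Agent.Sga3.H830.CommAux.isCommMonObj_of_epi q
  have aT : IsAffineHom T.hom := Groth.Agent.Sga3B.TorusAlgClosed.isAffineHom_of_isTorus hT
  have aT' : IsAffine T.left := isAffine_of_isAffineHom T.hom
  have sT : Smooth T.hom := Groth.Agent.Sga3B.TorusAlgClosed.smooth_of_isTorus hT
  have aQ : IsAffine Q.left := isAffine_of_isAffineHom Q.hom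
  obtain ⟨i1, i2, i3, i4⟩ := props T
  obtain ⟨j1, j2, j3, j4⟩ := props Q
  obtain ⟨S₁, hS₁, hne₁, h₀₁, ⟨M₁⟩⟩ := exists_mdlS T hS₀
  obtain ⟨S₂, hS₂, hne₂, h₁₂, ⟨M₂⟩⟩ := exists_mdlS Q hS₁
  let N₀ : MdlS S₂ G := M₀.enl (h₀₁.trans h₁₂)
  let N₁ : MdlS S₂ T := M₁.enl h₁₂
  obtain ⟨S, hS, hSS, ⟨⟨hE, e1, e2, e3⟩, hfin⟩, hsp⟩ := ev_and (S := S₂)
    (P := fun T' h => (ExactAt (N₁.enl h) (N₀.enl h) (M₂.enl h) j q ∧
        EV (N₁.enl h).X ∧ EV (N₀.enl h).X ∧ EV (M₂.enl h).X) ∧ IsFinite (M₂.enl h).X.hom)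
    (Q := fun T' h => ∃ (E : Over (Spec (CommRingCat.of (AdFn.SInt T')))) (r : ℕ), IsFinite E.hom ∧
        Etale E.hom ∧ Surjective E.hom ∧ Red.IsSplitTorusWith (Fin r → ℤ) (Red.bc E.hom (N₁.enl h).X))
    (fun T T' h h' hx => ⟨⟨hx.1.1.enl h',
      prop_enl (fun e he hx => hx.of_iso e he) (fun b hx => hx.bc b) hx.1.2.1 h',
      prop_enl (fun e he hx => hx.of_iso e he) (fun b hx => hx.bc b) hx.1.2.2.1 h',
      prop_enl (fun e he hx => hx.of_iso e he) (fun b hx => hx.bc b) hx.1.2.2.2 h'⟩,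
      isFinite_enl h' hx.2⟩)
    (fun T T' h h' hx => fEt_split_enl h' hx)
    (ev_and (fun T T' h h' hx => ⟨hx.1.enl h',
      prop_enl (fun e he hx => hx.of_iso e he) (fun b hx => hx.bc b) hx.2.1 h',
      prop_enl (fun e he hx => hx.of_iso e he) (fun b hx => hx.bc b) hx.2.2.1 h',
      prop_enl (fun e he hx => hx.of_iso e he) (fun b hx => hx.bc b) hx.2.2.2 h'⟩)
      (fun T T' h h' hx => isFinite_enl h' hx)
      (exists_seqS p j q hk hfl hs hS₂ hne₂ N₁ N₀ M₂)
      (exists_propS K286.Desc.descendsLim_isFinite hS₂ hne₂ M₂ hQ))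
    (exists_fEt_splitS hT hS₂ hne₂ N₁)
  let θ := eqv_enl_enl M₀ (h₀₁.trans h₁₂) hSS
  refine ⟨T, Q, _, cT, _, cQ, j, q, ‹_›, ‹_›, hT, S, hS, hne₂.mono hSS, (h₀₁.trans h₁₂).trans hSS,
    N₁.enl hSS, M₂.enl hSS, ?_, e1, ?_, e3, hfin, hsp⟩
  · exact hE.of_eqv (Eqv.refl _) θ (Eqv.refl _)
  · exact ev_propQ.of_eqv θ e2

end K620.GMod
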