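import Groth.Agent.TateGlob.K620.DualSeq
import Groth.Prelude.Def_AdFn

/-!
# Short exact sequences spread out to short exact sequences with short exact dual
-/

set_option autoImplicit false
universe u
open CategoryTheory AlgebraicGeometry MonObj

namespace K620.DualSeq

open K620.GMod K620.Sys K620.MdlDev K620.ExtV

theorem main (tor : ∀ {Y : Scheme.{u}} (T : Over Y) [GrpObj T] [IsCommMonObj T], Red.IsTorus T → Van T)
    (ga : ∀ (p : ℕ) [Fact p.Prime] (Y : Scheme.{u}), (p : Γ(Y, ⊤)) = 0 → Van (Red.Ga Y))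
    (Fq : Type u) [Field Fq] [Finite Fq] (K : Type u) [Field K] [Algebra (RatFunc Fq) K] [FunctionField Fq K]
    [Algebra Fq K] [IsScalarTower Fq (RatFunc Fq) K]
    (G₁ G₂ G₃ : Over (Spec (CommRingCat.of K))) [GrpObj G₁] [IsCommMonObj G₁] [GrpObj G₂] [IsCommMonObj G₂]
    [GrpObj G₃] [IsCommMonObj G₃] [IsAffine G₁.left] [IsAffine G₂.left] [IsAffine G₃.left]
    [LocallyOfFiniteType G₁.hom] [LocallyOfFiniteType G₂.hom] [LocallyOfFiniteType G₃.hom]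
    (f : G₁ ⟶ G₂) (g : G₂ ⟶ G₃) [IsMonHom f] [IsMonHom g] (w : f ≫ g = 1)
    (hex : (CGrpSh.seq Scheme.fppfPrecoverage f g w).ShortExact) :
    ∃ (S : Set (FunFld.Place Fq K)) (_ : S.Finite) (_ : S.Nonempty)
      (𝒢₁ 𝒢₂ 𝒢₃ : Over (Spec (CommRingCat.of (AdFn.SInt S))))
      (_ : GrpObj 𝒢₁) (_ : IsCommMonObj 𝒢₁) (_ : GrpObj 𝒢₂) (_ : IsCommMonObj 𝒢₂) (_ : GrpObj 𝒢₃) (_ : IsCommMonObj 𝒢₃)
      (f' : 𝒢₁ ⟶ 𝒢₂) (g' : 𝒢₂ ⟶ 𝒢₃) (_ : IsMonHom f') (_ : IsMonHom g') (w' : f' ≫ g' = 1)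
      (e₁ : AdFn.ModelIso Scheme.fppfPrecoverage S 𝒢₁ G₁) (e₂ : AdFn.ModelIso Scheme.fppfPrecoverage S 𝒢₂ G₂) (e₃ : AdFn.ModelIso Scheme.fppfPrecoverage S 𝒢₃ G₃),
      (Flat 𝒢₁.hom ∧ IsSeparated 𝒢₁.hom ∧ LocallyOfFiniteType 𝒢₁.hom ∧ QuasiCompact 𝒢₁.hom) ∧
      (Flat 𝒢₂.hom ∧ IsSeparated 𝒢₂.hom ∧ LocallyOfFiniteType 𝒢₂.hom ∧ QuasiCompact 𝒢₂.hom) ∧
      (Flat 𝒢₃.hom ∧ IsSeparated 𝒢₃.hom ∧ LocallyOfFiniteType 𝒢₃.hom ∧ QuasiCompact 𝒢₃.hom) ∧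
      (BigSite.pullBig Scheme.fppfPrecoverage (Spec.map (CommRingCat.ofHom (AdFn.SInt.toK S))) AddCommGrpCat.{u + 1}).map (CGrpSh.ptsMap Scheme.fppfPrecoverage f') ≫ e₂.hom =
        e₁.hom ≫ CGrpSh.ptsMap Scheme.fppfPrecoverage f ∧
      (BigSite.pullBig Scheme.fppfPrecoverage (Spec.map (CommRingCat.ofHom (AdFn.SInt.toK S))) AddCommGrpCat.{u + 1}).map (CGrpSh.ptsMap Scheme.fppfPrecoverage g') ≫ e₃.hom =
        e₂.hom ≫ CGrpSh.ptsMap Scheme.fppfPrecoverage g ∧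
      (CGrpSh.seq Scheme.fppfPrecoverage f' g' w').ShortExact ∧
      ((CGrpSh.seq Scheme.fppfPrecoverage f' g' w').op.map (CGrpSh2.dualFunctor Scheme.fppfPrecoverage (Spec (CommRingCat.of (AdFn.SInt S))))).ShortExact := by
  have : FinPoles Fq K := finPoles Fq K
  obtain ⟨p, hp⟩ := CharP.exists Fq
  have hprime : Fact p.Prime := ⟨CharP.char_is_prime Fq p⟩
  obtain ⟨h1, h2, h3, h4⟩ := props G₃
  obtain ⟨S₃, hS₃, hne₃, -, ⟨M₃⟩⟩ := exists_mdlS G₃ (Set.finite_empty (α := FunFld.Place Fq K))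
  obtain ⟨T, hT, hST, hEV⟩ := exists_ev tor (ga p) G₃ hS₃ hne₃ M₃
  obtain ⟨S₁, hS₁, hne₁, -, ⟨M₁⟩⟩ := exists_mdlS G₁ hT
  obtain ⟨S₂, hS₂, hne₂, hS₁₂, ⟨M₂⟩⟩ := exists_mdlS G₂ (hT.union hS₁)
  let N₁ : MdlS S₂ G₁ := M₁.enl (Set.subset_union_right.trans hS₁₂)
  let N₃ : MdlS S₂ G₃ := (M₃.enl hST).enl (Set.subset_union_left.trans hS₁₂)
  obtain ⟨S, hS, hSS, hE⟩ := exists_exact_of_shortExact f g w hex hS₂ hne₂ N₁ M₂ N₃
  obtain ⟨f', g', m1, m2, w', l1, l2, hex'⟩ := exists_seq hE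
  have hEV' : EV (N₃.enl hSS).X := (hEV.bc _).bc _
  exact ⟨S, hS, hne₂.mono hSS, (N₁.enl hSS).X, (M₂.enl hSS).X, (N₃.enl hSS).X, inferInstance, inferInstance,
    inferInstance, inferInstance, inferInstance, inferInstance, f', g', m1, m2, w',
    modelIso Scheme.fppfPrecoverage _, modelIso Scheme.fppfPrecoverage _, modelIso Scheme.fppfPrecoverage _,
    ⟨inferInstance, inferInstance, inferInstance, inferInstance⟩,
    ⟨inferInstance, inferInstance, inferInstance, inferInstance⟩,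
    ⟨inferInstance, inferInstance, inferInstance, inferInstance⟩,
    modelIso_nat _ _ _ f f' l1, modelIso_nat _ _ _ g g' l2, hex', hEV'.shortExact_dual w' hex'⟩

end K620.DualSeq
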