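import Groth.Agent.TateGlob.K620.MdlExt
import Groth.Agent.TateLoc.K620.Devissage
import Groth.Agent.GmDual.K778.FinExt

/-!
# `𝓔xt¹(G, 𝔾_m) = 0` for affine commutative groups over a field, from the cases of tori and of the additive group
-/

set_option autoImplicit false
universe u
open CategoryTheory CategoryTheory.Limits MonoidalCategory CartesianMonoidalCategory MonObj GrpObj
  AlgebraicGeometry Opposite HomSh

namespace K620.ExtV

/-- The fppf sheaf `𝓔xt¹(X, 𝔾_m)` vanishes. -/
def Van {B : Scheme.{u}} (X : Over B) [GrpObj X] [IsCommMonObj X] : Prop :=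
  IsZero ((extSh (QuotSh.J Scheme.fppfPrecoverage B)
    (CGrpSh.pts Scheme.fppfPrecoverage X) 1).obj (CGrpSh2.Gm Scheme.fppfPrecoverage B))

/-- Devissage. -/
theorem van_field {k : Type u} [Field k]
    (tor : ∀ (T : Over (Spec (CommRingCat.of k))) [GrpObj T] [IsCommMonObj T] [IsAffine T.left]
      [LocallyOfFiniteType T.hom], Red.IsTorus T → Van T)
    (ga : Van (Red.Ga (Spec (CommRingCat.of k))))
    (G : Over (Spec (CommRingCat.of k))) [GrpObj G] [IsCommMonObj G] [IsAffine G.left]
    [LocallyOfFiniteType G.hom] : Van G := by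
  refine K620.Devissage.induct k (fun G => Van G) ?_ ?_ ?_ tor ga G
  · intro G H _ _ _ _ e he h
    exact isZero_of_iso e he h
  · intro G₁ G₂ G₃ _ _ _ _ _ _ _ _ _ _ _ _ f g _ _ w hex h₁ h₃
    have h := K453.ExtShLES.left_exact₂ (QuotSh.J Scheme.fppfPrecoverage (Spec (CommRingCat.of k))) 1
      (CGrpSh2.Gm Scheme.fppfPrecoverage (Spec (CommRingCat.of k))) hex
    exact h.isZero_X₂ (h₃.eq_of_src _ _) (h₁.eq_of_tgt _ _)
  · intro G _ _ _
    exact K778.FinExt.isZero_extSh_one G

end K620.ExtV
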