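import Groth.Agent.TateGlob.K620.ModS
import Groth.Agent.TateGlob.K620.ExtField
import Groth.Agent.RedSub.H635.GaSm

/-!
# Models with vanishing `𝓔xt¹(-, 𝔾_m)` and exact dual sequences

* `hasQ`: every affine commutative group of finite type over `K` has a model `X` with `EV X`;
* `exists_models`: a short exact sequence spreads out to a short exact sequence of models with short exact dual.
-/

set_option autoImplicit false
universe u
open CategoryTheory CategoryTheory.Limits MonoidalCategory CartesianMonoidalCategory MonObj GrpObj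
  AlgebraicGeometry Opposite FunFld HomSh

namespace K620.DualSeq

open K620.GMod K620.Sys K620.MdlDev K620.ExtV

variable {k K : Type u} [Field k] [Field K] [Algebra k K] [FinPoles k K]

theorem ev_propQ : PropQ.{u} @EV where
  iso e he h := h.of_iso e he
  bc b h := h.bc b
  ext hk h₁ h₂ := EV.of_ext hk h₁ h₂

/-- Finite groups. -/
theorem hasQ_fin (G : Over (Spec (CommRingCat.of K))) [GrpObj G] [IsCommMonObj G] [IsFinite G.hom] :
    HasQ k @EV G := by
  have h0 : IsAffineHom G.hom := inferInstance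
  have h1 : IsAffine G.left := isAffine_of_isAffineHom G.hom
  obtain ⟨i₀⟩ : Nonempty (Idx k K)ᵒᵖ := inferInstance
  obtain ⟨i, -, ⟨M⟩⟩ := exists_mdl' k G i₀
  obtain ⟨j, f, hf⟩ := exists_prop_hom (isLimit k K) K286.Desc.descendsLim_isFinite M ‹IsFinite G.hom›
  refine ⟨j, M.mv f, fun Y y => ?_⟩
  have g1 : IsFinite (Red.bc y (M.mv f).X).hom :=
    inferInstanceAs (IsFinite (pullback.snd (M.mv f).X.hom y))
  have g2 : Flat (Red.bc y (M.mv f).X).hom :=
    inferInstanceAs (Flat (pullback.snd (M.mv f).X.hom y))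
  have g3 : LocallyOfFinitePresentation (Red.bc y (M.mv f).X).hom :=
    inferInstanceAs (LocallyOfFinitePresentation (pullback.snd (M.mv f).X.hom y))
  exact K778.FinExt.isZero_extSh_one _

/-- Tori. -/
theorem hasQ_tor (tor : ∀ {Y : Scheme.{u}} (T : Over Y) [GrpObj T] [IsCommMonObj T], Red.IsTorus T → Van T)
    (T : Over (Spec (CommRingCat.of K))) [GrpObj T] [IsCommMonObj T] [IsAffine T.left]
    [LocallyOfFiniteType T.hom] (hT : Red.IsTorus T) : HasQ k @EV T := by
  obtain ⟨i₀⟩ : Nonempty (Idx k K)ᵒᵖ := inferInstance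
  obtain ⟨i, -, ⟨M⟩⟩ := exists_mdl' k T i₀
  obtain ⟨E, r, h1, h2, h3, h4, h5, h6⟩ := exists_split_field hT
  obtain ⟨j, f, hf⟩ := exists_isTorus (isLimit k K) M E r h6
  exact ⟨j, M.mv f, fun Y y => tor _ (Groth.Agent.Sga3B.TorusBc.isTorus_bc y hf)⟩

/-- The additive group as a model of the additive group. -/
noncomputable def mdlGa {N B : Scheme.{u}} (t : N ⟶ B) : Mdl t (Red.Ga N) :=
  have h1 : Smooth (Red.Ga B).hom := Groth.Agent.RedSub.H635.GaSm.smooth_ga
  have h2 : IsAffineHom (Red.GaZ.{u}).hom := by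
    change IsAffineHom (Spec.map _)
    infer_instance
  have h3 : IsAffineHom (Red.Ga B).hom := MorphismProperty.pullback_snd (P := @IsAffineHom) _ _ h2
  have h4 : Flat (Red.Ga B).hom := inferInstance
  have h5 : LocallyOfFinitePresentation (Red.Ga B).hom := inferInstance
  have h6 : IsSeparated (Red.Ga B).hom := inferInstance
  have h7 : QuasiCompact (Red.Ga B).hom := inferInstance
  let e : Grp.mk (Red.bc t (Red.Ga B)) ≅ Grp.mk (Red.Ga N) := Groth.Agent.Sga3B.DsBc.constIso t Red.GaZ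
  { X := Red.Ga B
    e := Groth.Agent.Sga3B.RedIso.und e
    mon := e.hom.hom.isMonHom_hom }

theorem ev_ga {p : ℕ} (ga : ∀ Y : Scheme.{u}, (p : Γ(Y, ⊤)) = 0 → Van (Red.Ga Y)) {B : Scheme.{u}}
    (hB : (p : Γ(B, ⊤)) = 0) : EV (Red.Ga B) := by
  intro Y y
  have hY : (p : Γ(Y, ⊤)) = 0 := by
    have := congrArg y.appTop.hom hB
    simpa using this
  let e : Grp.mk (Red.bc y (Red.Ga B)) ≅ Grp.mk (Red.Ga Y) := Groth.Agent.Sga3B.DsBc.constIso y Red.GaZ
  exact isZero_of_iso (Groth.Agent.Sga3B.RedIso.und e.symm) (e.symm).hom.hom.isMonHom_hom (ga Y hY)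

theorem hasQ_ga {p : ℕ} [CharP k p] (ga : ∀ Y : Scheme.{u}, (p : Γ(Y, ⊤)) = 0 → Van (Red.Ga Y)) :
    HasQ k @EV (Red.Ga (Spec (CommRingCat.of K))) := by
  obtain ⟨i⟩ : Nonempty (Idx k K)ᵒᵖ := inferInstance
  refine ⟨i, mdlGa _, ev_ga ga ?_⟩
  have h1 : (p : AdFn.SInt i.unop.1) = 0 := by
    have := congrArg (algebraMap k (AdFn.SInt i.unop.1)) (CharP.cast_eq_zero k p)
    rwa [map_natCast, map_zero] at this
  have := congrArg (Scheme.ΓSpecIso (CommRingCat.of (AdFn.SInt i.unop.1))).inv.hom h1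
  rwa [map_natCast, map_zero] at this

section Main

variable {p : ℕ} [CharP k p]
  (tor : ∀ {Y : Scheme.{u}} (T : Over Y) [GrpObj T] [IsCommMonObj T], Red.IsTorus T → Van T)
  (ga : ∀ Y : Scheme.{u}, (p : Γ(Y, ⊤)) = 0 → Van (Red.Ga Y))

include tor ga

/-- Every affine commutative group of finite type has a model `X` with `EV X`. -/
theorem hasQ (G : Over (Spec (CommRingCat.of K))) [GrpObj G] [IsCommMonObj G] [IsAffine G.left]
    [LocallyOfFiniteType G.hom] : HasQ k @EV G :=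
  induct @EV ev_propQ (fun G _ _ _ => hasQ_fin G) (fun T _ _ _ _ => hasQ_tor tor T) (hasQ_ga ga) G

/-- Every model `X` has `EV X` after enlarging the set of places. -/
theorem exists_ev (G : Over (Spec (CommRingCat.of K))) [GrpObj G] [IsCommMonObj G] [IsAffine G.left]
    [LocallyOfFiniteType G.hom] {S : Set (Place k K)} (hS : S.Finite) (hne : S.Nonempty)
    (M : MdlS S G) : ∃ (T : Set (Place k K)) (_ : T.Finite) (h : S ⊆ T), EV (M.enl h).X := by
  obtain ⟨l, g, h⟩ := (hasQ tor ga G).exists_of ev_propQ (j := idx hS hne) M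
  exact ⟨l.unop.1, l.unop.2.1, idx_le g, h⟩

end Main

/-- Exactness of the models in the form of a short exact sequence of affine groups. -/
theorem exists_exact_of_shortExact {G₁ G₂ G₃ : Over (Spec (CommRingCat.of K))} [GrpObj G₁]
    [IsCommMonObj G₁] [GrpObj G₂] [IsCommMonObj G₂] [GrpObj G₃] [IsCommMonObj G₃] [IsAffine G₁.left]
    [IsAffine G₂.left] [IsAffine G₃.left] [LocallyOfFiniteType G₁.hom] [LocallyOfFiniteType G₂.hom]
    [LocallyOfFiniteType G₃.hom] (f : G₁ ⟶ G₂) (g : G₂ ⟶ G₃) [IsMonHom f] [IsMonHom g] (w : f ≫ g = 1)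
    (hex : (CGrpSh.seq Scheme.fppfPrecoverage f g w).ShortExact) {S : Set (Place k K)}
    (hS : S.Finite) (hne : S.Nonempty) (M₁ : MdlS S G₁) (M₂ : MdlS S G₂) (M₃ : MdlS S G₃) :
    ∃ (T : Set (Place k K)) (_ : T.Finite) (h : S ⊆ T),
      ExactAt (M₁.enl h) (M₂.enl h) (M₃.enl h) f g := by
  obtain ⟨hk, hfl, hs⟩ := K59.DevRep.isKernel_of_shortExact _ _ _ hex
  rw [K731.Full.hom_ptsMap, K731.Full.hom_ptsMap] at hk
  rw [K731.Full.hom_ptsMap] at hfl hs
  exact exists_exactS hS hne M₁ M₂ M₃ f g hk hfl hs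

end K620.DualSeq
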