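import Groth.Agent.SGA3.K210.LimHom2
import Groth.Agent.Models.WeilPts
import Groth.Agent.Sga7.H760.KerBc

/-!
# Models of commutative group schemes along a scheme-theoretically dominant morphism

`t : N ⟶ B` is quasi-compact and scheme-theoretically dominant (example: the generic point of an
integral scheme).

* `map_inj`: base change along `t` is faithful on morphisms from a flat to a separated `B`-scheme.
* `Mdl t G`: flat separated finitely presented commutative `B`-groups with generic fibre `G`.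
* `IsLift M M' u u'`: the morphism `u'` of models extends `u`; uniqueness, homomorphisms, composition,
  base change `Mdl.bc`, `IsLift.bc`.
-/

set_option autoImplicit false
set_option backward.isDefEq.respectTransparency false
set_option backward.defeqAttrib.useBackward true
universe u
open CategoryTheory CategoryTheory.Limits MonoidalCategory CartesianMonoidalCategory MonObj GrpObj
  AlgebraicGeometry

namespace K620.GMod

open K210.LimHom

section Dom

variable {N B : Scheme.{u}} (t : N ⟶ B)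

instance sep_bc (X : Over B) [IsSeparated X.hom] : IsSeparated (Red.bc t X).hom :=
  inferInstanceAs (IsSeparated (pullback.snd X.hom t))

variable [IsSchemeTheoreticallyDominant t] [QuasiCompact t]

/-- Base change along a dominant morphism is faithful on morphisms from flat to separated. -/
theorem map_inj {X Y : Over B} [Flat X.hom] [IsSeparated Y.hom] {a b : X ⟶ Y}
    (h : (Over.pullback t).map a = (Over.pullback t).map b) : a = b := by
  rw [map_eq_map_iff] at h
  ext
  exact Groth.Agent.Models.WeilPts.ext_of_schDominant Y.hom ((Over.w a).trans (Over.w b).symm)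
    (pullback.fst X.hom t) h

/-- A morphism of flat separated groups is a homomorphism if its base change is. -/
theorem isMonHom_of_map {X Y : Over B} [GrpObj X] [GrpObj Y] [Flat X.hom] [IsSeparated Y.hom]
    (v : X ⟶ Y) (h : IsMonHom ((Over.pullback t).map v)) : IsMonHom v := by
  refine isMonHom_of_mul v ?_
  have : Flat (X ⊗ X).hom := flat_tensor X X
  exact map_inj t ((isMonHom_map_iff t v).mp h)

/-- A flat separated group is commutative if its base change is. -/
theorem isComm_of_bc {X : Over B} [GrpObj X] [Flat X.hom] [IsSeparated X.hom]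
    (h : IsCommMonObj (Red.bc t X)) : IsCommMonObj X := by
  have : Flat (X ⊗ X).hom := flat_tensor X X
  refine ⟨map_inj t ?_⟩
  have h1 := h.mul_comm
  have h2 : (β_ (Red.bc t X) (Red.bc t X)).hom ≫ Functor.LaxMonoidal.μ (Over.pullback t) X X =
      Functor.LaxMonoidal.μ (Over.pullback t) X X ≫ (Over.pullback t).map (β_ X X).hom := by
    exact (Functor.LaxBraided.braided X X).symm
  rw [Functor.map_comp, ← cancel_epi (Functor.LaxMonoidal.μ (Over.pullback t) X X), ← reassoc_of% h2]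
  rw [Functor.obj.μ_def] at h1
  exact h1

end Dom

/-- A flat, separated, finitely presented commutative model of the group `G` along `t`. -/
structure Mdl {N B : Scheme.{u}} (t : N ⟶ B) (G : Over N) [GrpObj G] where
  /-- the group scheme -/
  X : Over B
  [grp : GrpObj X]
  [comm : IsCommMonObj X]
  [flat : Flat X.hom]
  [sep : IsSeparated X.hom]
  [lfp : LocallyOfFinitePresentation X.hom]
  [qc : QuasiCompact X.hom]
  /-- the comparison -/
  e : Red.bc t X ≅ G
  [mon : IsMonHom e.hom]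

attribute [instance] Mdl.grp Mdl.comm Mdl.flat Mdl.sep Mdl.lfp Mdl.qc Mdl.mon

variable {N B B' B'' : Scheme.{u}} {t : N ⟶ B} {t' : N ⟶ B'} {t'' : N ⟶ B''}
  {G H L : Over N} [GrpObj G] [GrpObj H] [GrpObj L]

/-- Base change of a model. -/
noncomputable def Mdl.bc (M : Mdl t G) (b : B' ⟶ B) (h : t' ≫ b = t) : Mdl t' G where
  X := Red.bc b M.X
  flat := flat_bc b M.X
  lfp := lfp_bc b M.X
  qc := qc_bc b M.X
  e := ActBC.bcCompIso t' b M.X h ≪≫ M.e
  mon := by
    rw [Iso.trans_hom]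
    infer_instance

/-- Transport along an isomorphism of the generic fibre. -/
noncomputable def Mdl.ofIso (M : Mdl t G) (e : G ≅ H) (he : IsMonHom e.hom) : Mdl t H where
  X := M.X
  e := M.e ≪≫ e
  mon := by
    rw [Iso.trans_hom]
    infer_instance

/-- `u'` extends `u`. -/
def IsLift (M : Mdl t G) (M' : Mdl t H) (u : G ⟶ H) (u' : M.X ⟶ M'.X) : Prop :=
  (Over.pullback t).map u' ≫ M'.e.hom = M.e.hom ≫ u

namespace IsLift

variable {M : Mdl t G} {M' : Mdl t H} {M'' : Mdl t L} {u : G ⟶ H} {v : H ⟶ L}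

omit [GrpObj L] in
theorem map_eq {u' : M.X ⟶ M'.X} (h : IsLift M M' u u') :
    (Over.pullback t).map u' = M.e.hom ≫ u ≫ M'.e.inv := by
  rw [← Category.assoc, Iso.eq_comp_inv]
  exact h

theorem unique [IsSchemeTheoreticallyDominant t] [QuasiCompact t] {u' u'' : M.X ⟶ M'.X}
    (h : IsLift M M' u u') (h' : IsLift M M' u u'') : u' = u'' :=
  map_inj t (by rw [h.map_eq, h'.map_eq])

theorem isMonHom [IsSchemeTheoreticallyDominant t] [QuasiCompact t] [IsMonHom u]
    {u' : M.X ⟶ M'.X} (h : IsLift M M' u u') : IsMonHom u' := by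
  refine isMonHom_of_map t u' ?_
  rw [h.map_eq]
  infer_instance

theorem id (M : Mdl t G) : IsLift M M (𝟙 G) (𝟙 M.X) := by
  rw [IsLift, CategoryTheory.Functor.map_id, Category.comp_id]
  exact Category.id_comp _

theorem comp {u' : M.X ⟶ M'.X} {v' : M'.X ⟶ M''.X} (h : IsLift M M' u u')
    (h' : IsLift M' M'' v v') : IsLift M M'' (u ≫ v) (u' ≫ v') := by
  rw [IsLift, Functor.map_comp, Category.assoc, h', ← Category.assoc, h, Category.assoc]

theorem one (M : Mdl t G) (M' : Mdl t H) : IsLift M M' 1 1 := by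
  rw [IsLift, Functor.map_one, one_comp, MonObj.comp_one]

theorem bc {u' : M.X ⟶ M'.X} (h : IsLift M M' u u') (b : B' ⟶ B) (hb : t' ≫ b = t) :
    IsLift (M.bc b hb) (M'.bc b hb) u ((Over.pullback b).map u') := by
  change (Over.pullback t').map ((Over.pullback b).map u') ≫
    (ActBC.bcCompIso t' b M'.X hb).hom ≫ M'.e.hom =
    ((ActBC.bcCompIso t' b M.X hb).hom ≫ M.e.hom) ≫ u
  rw [ActBC.bcCompIso_hom_naturality_assoc, Category.assoc, h]

theorem inv {e : G ≅ H} {e' : M.X ≅ M'.X} (h : IsLift M M' e.hom e'.hom) :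
    IsLift M' M e.inv e'.inv := by
  have h1 : (Over.pullback t).map e'.inv ≫ (Over.pullback t).map e'.hom = 𝟙 _ := by
    rw [← Functor.map_comp, e'.inv_hom_id, CategoryTheory.Functor.map_id]
  rw [h.map_eq] at h1
  have h2 : (Over.pullback t).map e'.inv ≫ M.e.hom ≫ e.hom = M'.e.hom := by
    have := congr($h1 ≫ M'.e.hom)
    simpa using this
  rw [IsLift, ← h2]
  simp

end IsLift

/-- `u` extends to the models, with the property `P`. -/
def Lifts (P : MorphismProperty Scheme.{u}) (M : Mdl t G) (M' : Mdl t H) (u : G ⟶ H) : Prop :=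
  ∃ u' : M.X ⟶ M'.X, IsLift M M' u u' ∧ P u'.left

/-- The sequence extends to an exact sequence of the models. -/
def ExactAt (M : Mdl t G) (M' : Mdl t H) (M'' : Mdl t L) (u : G ⟶ H) (v : H ⟶ L) : Prop :=
  ∃ (u' : M.X ⟶ M'.X) (v' : M'.X ⟶ M''.X), IsLift M M' u u' ∧ IsLift M' M'' v v' ∧
    AlgGrp.IsKernel u' v' ∧ Flat v'.left ∧ Surjective v'.left

/-- Two models of the same group are equivalent. -/
def Eqv (M M' : Mdl t G) : Prop := ∃ θ : M.X ≅ M'.X, IsLift M M' (𝟙 G) θ.hom

theorem Eqv.symm {M M' : Mdl t G} (h : Eqv M M') : Eqv M' M := by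
  obtain ⟨θ, hθ⟩ := h
  exact ⟨θ.symm, IsLift.inv (e := Iso.refl G) hθ⟩

theorem Eqv.refl (M : Mdl t G) : Eqv M M := ⟨Iso.refl _, IsLift.id M⟩

theorem Eqv.trans {M M' M'' : Mdl t G} (h : Eqv M M') (h' : Eqv M' M'') : Eqv M M'' := by
  obtain ⟨θ, hθ⟩ := h
  obtain ⟨θ', hθ'⟩ := h'
  exact ⟨θ ≪≫ θ', by simpa using hθ.comp hθ'⟩

theorem Eqv.bc {M M' : Mdl t G} (h : Eqv M M') (b : B' ⟶ B) (hb : t' ≫ b = t) :
    Eqv (M.bc b hb) (M'.bc b hb) := by
  obtain ⟨θ, hθ⟩ := h
  exact ⟨(Over.pullback b).mapIso θ, hθ.bc b hb⟩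

theorem Eqv.bc_bc (M : Mdl t G) (b : B' ⟶ B) (hb : t' ≫ b = t) (b' : B'' ⟶ B') (hb' : t'' ≫ b' = t')
    {d : B'' ⟶ B} (hd : b' ≫ b = d) (hd' : t'' ≫ d = t) :
    Eqv ((M.bc b hb).bc b' hb') (M.bc d hd') := by
  refine ⟨ActBC.bcCompIso b' b M.X hd, ?_⟩
  change (Over.pullback t'').map _ ≫ (ActBC.bcCompIso t'' d M.X hd').hom ≫ M.e.hom =
    ((ActBC.bcCompIso t'' b' (Red.bc b M.X) hb').hom ≫ (ActBC.bcCompIso t' b M.X hb).hom ≫
      M.e.hom) ≫ 𝟙 G
  rw [Category.comp_id, ← Category.assoc, ← Category.assoc]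
  congr 1
  exact bcCompIso_assoc _ _ _ hb' hd hb hd' M.X

theorem Lifts.of_eqv {P : MorphismProperty Scheme.{u}} [P.RespectsIso] {M N : Mdl t G}
    {M' N' : Mdl t H} {u : G ⟶ H} (h : Lifts P M M' u) (hM : Eqv M N) (hM' : Eqv M' N') :
    Lifts P N N' u := by
  obtain ⟨u', hu, hP⟩ := h
  obtain ⟨θ, hθ⟩ := hM.symm
  obtain ⟨θ', hθ'⟩ := hM'
  refine ⟨θ.hom ≫ u' ≫ θ'.hom, by simpa using hθ.comp (hu.comp hθ'), ?_⟩
  rw [Over.comp_left, Over.comp_left]
  have : IsIso θ.hom.left := inferInstanceAs (IsIso ((Over.forget B).map θ.hom))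
  have : IsIso θ'.hom.left := inferInstanceAs (IsIso ((Over.forget B).map θ'.hom))
  rwa [P.cancel_left_of_respectsIso, P.cancel_right_of_respectsIso]

theorem Lifts.bc {P : MorphismProperty Scheme.{u}} [P.IsStableUnderBaseChange] {M : Mdl t G}
    {M' : Mdl t H} {u : G ⟶ H} (h : Lifts P M M' u) (b : B' ⟶ B) (hb : t' ≫ b = t) :
    Lifts P (M.bc b hb) (M'.bc b hb) u := by
  obtain ⟨u', hu, hP⟩ := h
  exact ⟨_, hu.bc b hb, P.of_isPullback
    (Groth.Agent.Sga3.H515.GrpModel.isPullback_map_left b u') hP⟩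

theorem ExactAt.of_eqv {M N : Mdl t G} {M' N' : Mdl t H} {M'' N'' : Mdl t L} {u : G ⟶ H} {v : H ⟶ L}
    [IsSchemeTheoreticallyDominant t] [QuasiCompact t] [IsMonHom v]
    (h : ExactAt M M' M'' u v) (hM : Eqv M N) (hM' : Eqv M' N') (hM'' : Eqv M'' N'') :
    ExactAt N N' N'' u v := by
  obtain ⟨u', v', hu, hv, hk, hfl, hs⟩ := h
  obtain ⟨θ, hθ⟩ := hM
  obtain ⟨θ', hθ'⟩ := hM'
  obtain ⟨θ'', hθ''⟩ := hM''
  have hθi := IsLift.inv (e := Iso.refl G) hθ
  have hθi' := IsLift.inv (e := Iso.refl H) hθ'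
  have : IsIso θ'.inv.left := inferInstanceAs (IsIso ((Over.forget B).map θ'.inv))
  have : IsIso θ''.hom.left := inferInstanceAs (IsIso ((Over.forget B).map θ''.hom))
  have hmon : IsMonHom θ''.hom := hθ''.isMonHom
  refine ⟨θ.inv ≫ u' ≫ θ'.hom, θ'.inv ≫ v' ≫ θ''.hom, by simpa using hθi.comp (hu.comp hθ'),
    by simpa using hθi'.comp (hv.comp hθ''), ?_, ?_, ?_⟩
  · refine IsPullback.of_iso hk θ θ' (Iso.refl _) θ'' (by simp) (toUnit_unique _ _) (by simp) ?_
    rw [Iso.refl_hom, Category.id_comp]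
    exact hmon.one_hom
  · rw [Over.comp_left, Over.comp_left]
    infer_instance
  · rw [Over.comp_left, Over.comp_left]
    infer_instance

theorem ExactAt.bc {M : Mdl t G} {M' : Mdl t H} {M'' : Mdl t L} {u : G ⟶ H} {v : H ⟶ L}
    (h : ExactAt M M' M'' u v) (b : B' ⟶ B) (hb : t' ≫ b = t) :
    ExactAt (M.bc b hb) (M'.bc b hb) (M''.bc b hb) u v := by
  obtain ⟨u', v', hu, hv, hk, hfl, hs⟩ := h
  refine ⟨_, _, hu.bc b hb, hv.bc b hb, Groth.Agent.Sga7.H760.KerBc.isKernel_bc b hk, ?_, ?_⟩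
  · exact MorphismProperty.of_isPullback (P := @Flat)
      (Groth.Agent.Sga3.H515.GrpModel.isPullback_map_left b v') hfl
  · exact MorphismProperty.of_isPullback (P := @Surjective)
      (Groth.Agent.Sga3.H515.GrpModel.isPullback_map_left b v') hs

end K620.GMod
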