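import Groth.Agent.TateGlob.K620.MdlExt
import Groth.Agent.TateGlob.K620.Sys
import Groth.Agent.TateLoc.K59.DevRep
import Groth.Agent.TateLoc.K620.Devissage

/-!
# Models over rings of `S`-integers of affine commutative groups with a given property

`PropQ Q`: `Q` is invariant under isomorphisms, stable under base change and extensions.
* `exists_model_seq`: a short exact sequence of affine groups over `K` extends to models, from given stages;
* `induct`: if finite groups, tori and the additive group have models with `Q`, every affine commutative group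
  of finite type has one.
-/

set_option autoImplicit false
universe u
open CategoryTheory CategoryTheory.Limits MonoidalCategory CartesianMonoidalCategory MonObj GrpObj
  AlgebraicGeometry Opposite FunFld

noncomputable section

namespace K620.MdlDev

open K620.GMod K620.Sys

/-- Properties of commutative group schemes invariant under isomorphisms, base change and extensions. -/
structure PropQ (Q : ∀ {B : Scheme.{u}} (X : Over B) [GrpObj X] [IsCommMonObj X], Prop) : Prop where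
  iso : ∀ {B : Scheme.{u}} {X X' : Over B} [GrpObj X] [IsCommMonObj X] [GrpObj X'] [IsCommMonObj X']
    (e : X ≅ X'), IsMonHom e.hom → Q X → Q X'
  bc : ∀ {B B' : Scheme.{u}} {X : Over B} [GrpObj X] [IsCommMonObj X] (b : B' ⟶ B), Q X → Q (Red.bc b X)
  ext : ∀ {B : Scheme.{u}} {F G H : Over B} [GrpObj F] [IsCommMonObj F] [GrpObj G] [IsCommMonObj G]
    [GrpObj H] [IsCommMonObj H] {f : F ⟶ G} {p : G ⟶ H} [IsMonHom f] [IsMonHom p] [Flat p.left]
    [Surjective p.left] [LocallyOfFinitePresentation p.left], AlgGrp.IsKernel f p → Q F → Q H → Q G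

section Gen

variable {Q : ∀ {B : Scheme.{u}} (X : Over B) [GrpObj X] [IsCommMonObj X], Prop} (hQ : PropQ @Q)
  {N B : Scheme.{u}} {t : N ⟶ B} [IsSchemeTheoreticallyDominant t] [QuasiCompact t]

include hQ

theorem PropQ.of_eqv {G : Over N} [GrpObj G] {M M' : Mdl t G} (h : Eqv M M') (hM : Q M.X) : Q M'.X := by
  obtain ⟨θ, hθ⟩ := h
  exact hQ.iso θ hθ.isMonHom hM

theorem PropQ.of_exactAt {G H L : Over N} [GrpObj G] [GrpObj H] [GrpObj L] {M : Mdl t G} {M' : Mdl t H}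
    {M'' : Mdl t L} {u : G ⟶ H} {v : H ⟶ L} [IsMonHom u] [IsMonHom v] (h : ExactAt M M' M'' u v)
    (hM : Q M.X) (hM'' : Q M''.X) : Q M'.X := by
  obtain ⟨u', v', hu, hv, hk, hfl, hs⟩ := h
  have h1 : IsMonHom u' := hu.isMonHom
  have h2 : IsMonHom v' := hv.isMonHom
  have c0 : v'.left ≫ M''.X.hom = M'.X.hom := Over.w v'
  have c1 : LocallyOfFinitePresentation v'.left := by
    have : LocallyOfFinitePresentation (v'.left ≫ M''.X.hom) := by rw [c0]; infer_instance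
    exact Groth.Agent.Flat2E.Thick.locallyOfFinitePresentation_of_comp _ M''.X.hom
  exact hQ.ext hk hM hM''

end Gen

variable {k K : Type u} [Field k] [Field K] [Algebra k K] [FinPoles k K]

section Seq

variable {G₁ G₂ G₃ : Over (Spec (CommRingCat.of K))} [GrpObj G₁] [IsCommMonObj G₁] [GrpObj G₂] [IsCommMonObj G₂]
    [GrpObj G₃] [IsCommMonObj G₃] [IsAffine G₁.left] [IsAffine G₂.left] [IsAffine G₃.left]
    [LocallyOfFiniteType G₁.hom] [LocallyOfFiniteType G₂.hom] [LocallyOfFiniteType G₃.hom]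

/-- Properties of affine groups over a field. -/
theorem props (G : Over (Spec (CommRingCat.of K))) [IsAffine G.left] [LocallyOfFiniteType G.hom] :
    Flat G.hom ∧ IsSeparated G.hom ∧ LocallyOfFinitePresentation G.hom ∧ QuasiCompact G.hom := by
  have h1 : IsAffineHom G.hom := inferInstance
  refine ⟨?_, inferInstance, ?_, inferInstance⟩
  · infer_instance
  · infer_instance

variable (k) in
/-- Existence of models. -/
theorem exists_mdl' (G : Over (Spec (CommRingCat.of K))) [GrpObj G] [IsCommMonObj G] [IsAffine G.left]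
    [LocallyOfFiniteType G.hom] (i₀ : (Idx k K)ᵒᵖ) :
    ∃ (i : (Idx k K)ᵒᵖ) (_ : i ⟶ i₀), Nonempty (Mdl ((cone k K).π.app i) G) := by
  obtain ⟨h1, h2, h3, h4⟩ := props G
  exact exists_mdl (isLimit k K) G i₀

/-- A short exact sequence extends to models. -/
theorem exists_model_seq (f : G₁ ⟶ G₂) (g : G₂ ⟶ G₃) [IsMonHom f] [IsMonHom g] (w : f ≫ g = 1)
    (hex : (CGrpSh.seq Scheme.fppfPrecoverage f g w).ShortExact) {i₁ i₂ i₃ : (Idx k K)ᵒᵖ}
    (M₁ : Mdl ((cone k K).π.app i₁) G₁) (M₂ : Mdl ((cone k K).π.app i₂) G₂)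
    (M₃ : Mdl ((cone k K).π.app i₃) G₃) :
    ∃ (j : (Idx k K)ᵒᵖ) (f₁ : j ⟶ i₁) (f₂ : j ⟶ i₂) (f₃ : j ⟶ i₃),
      ExactAt (M₁.mv f₁) (M₂.mv f₂) (M₃.mv f₃) f g := by
  obtain ⟨hk, hfl, hs⟩ := K59.DevRep.isKernel_of_shortExact _ _ _ hex
  rw [K731.Full.hom_ptsMap, K731.Full.hom_ptsMap] at hk
  rw [K731.Full.hom_ptsMap] at hfl hs
  obtain ⟨k₁, a₁, a₂, -⟩ := IsCofilteredOrEmpty.cone_objs i₁ i₂
  obtain ⟨k₂, b₁, b₃, -⟩ := IsCofilteredOrEmpty.cone_objs k₁ i₃
  obtain ⟨j, c, h⟩ := exists_exact (isLimit k K) (M₁.mv (b₁ ≫ a₁)) (M₂.mv (b₁ ≫ a₂)) (M₃.mv b₃) f g hk hfl hs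
  exact ⟨j, c ≫ b₁ ≫ a₁, c ≫ b₁ ≫ a₂, c ≫ b₃,
    h.of_eqv (eqv_mv_mv _ _ _) (eqv_mv_mv _ _ _) (eqv_mv_mv _ _ _)⟩

end Seq

variable (k) in
/-- `G` has a model with `Q`. -/
def HasQ (Q : ∀ {B : Scheme.{u}} (X : Over B) [GrpObj X] [IsCommMonObj X], Prop) (G : Over (Spec (CommRingCat.of K))) [GrpObj G] : Prop :=
  ∃ (i : (Idx k K)ᵒᵖ) (M : Mdl ((cone k K).π.app i) G), Q M.X

variable {Q : ∀ {B : Scheme.{u}} (X : Over B) [GrpObj X] [IsCommMonObj X], Prop}

/-- Every model has `Q` at a later stage. -/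
theorem HasQ.exists_of (hQ : PropQ @Q) {G : Over (Spec (CommRingCat.of K))} [GrpObj G] (h : HasQ k @Q G)
    {j : (Idx k K)ᵒᵖ} (M : Mdl ((cone k K).π.app j) G) : ∃ (l : (Idx k K)ᵒᵖ) (g : l ⟶ j), Q (M.mv g).X := by
  obtain ⟨i, M', hM'⟩ := h
  exact exists_good (isLimit k K) (Q := fun M => Q M.X) (fun h hM => hQ.of_eqv h hM)
    (fun f _ hM => hQ.bc _ hM) M' hM' M

variable (Q) in
/-- **Devissage for models.** -/
theorem induct (hQ : PropQ @Q)
    (fin : ∀ (G : Over (Spec (CommRingCat.of K))) [GrpObj G] [IsCommMonObj G] [IsFinite G.hom], HasQ k @Q G)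
    (tor : ∀ (T : Over (Spec (CommRingCat.of K))) [GrpObj T] [IsCommMonObj T] [IsAffine T.left]
      [LocallyOfFiniteType T.hom], Red.IsTorus T → HasQ k @Q T)
    (ga : HasQ k @Q (Red.Ga (Spec (CommRingCat.of K))))
    (G : Over (Spec (CommRingCat.of K))) [GrpObj G] [IsCommMonObj G] [IsAffine G.left]
    [LocallyOfFiniteType G.hom] : HasQ k @Q G := by
  refine K620.Devissage.induct K (fun G => HasQ k @Q G) ?_ ?_ fin tor ga G
  · rintro G H _ _ _ _ e he ⟨i, M, hM⟩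
    exact ⟨i, M.ofIso e he, hM⟩
  · intro G₁ G₂ G₃ _ _ _ _ _ _ _ _ _ _ _ _ f g _ _ w hex ⟨i₁, M₁, h₁⟩ ⟨i₃, M₃, h₃⟩
    obtain ⟨i₂, -, ⟨M₂⟩⟩ := exists_mdl' k G₂ i₁
    obtain ⟨j, f₁, f₂, f₃, h⟩ := exists_model_seq f g w hex M₁ M₂ M₃
    exact ⟨j, M₂.mv f₂, hQ.of_exactAt h (hQ.bc _ h₁) (hQ.bc _ h₃)⟩

end K620.MdlDev
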