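import Groth.Agent.TateGlob.K620.MdlPts
import Groth.Agent.GmDual.K778.DblSeq
import Groth.Agent.AlgGrp.K412.Tower

/-!
# Groups whose fppf sheaf `𝓔xt¹(-, 𝔾_m)` vanishes over every base

* `EV X`: over every `Y → B` the sheaf `𝓔xt¹(X_Y, 𝔾_m)` vanishes;
* `EV.bc`, `EV.of_iso`, `EV.self`, `EV.of_ext` (extensions);
* `EV.shortExact_dual`: the dual of a short exact sequence with `EV` quotient is short exact.
-/

set_option autoImplicit false
universe u
open CategoryTheory CategoryTheory.Limits MonoidalCategory CartesianMonoidalCategory MonObj GrpObj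
  AlgebraicGeometry Opposite HomSh

noncomputable section

namespace K620.ExtV

/-- Over every `Y → B` the first Ext sheaf of `X_Y` with values in the multiplicative group vanishes. -/
def EV {B : Scheme.{u}} (X : Over B) [GrpObj X] [IsCommMonObj X] : Prop :=
  ∀ ⦃Y : Scheme.{u}⦄ (y : Y ⟶ B), IsZero ((extSh (QuotSh.J Scheme.fppfPrecoverage Y)
    (CGrpSh.pts Scheme.fppfPrecoverage (Red.bc y X)) 1).obj (CGrpSh2.Gm Scheme.fppfPrecoverage Y))

/-- Invariance of the Ext sheaves under isomorphisms. -/
def extShIso {C : Type (u + 1)} [Category.{u} C] (J : GrothendieckTopology C)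
    [HasInjectiveResolutions (Sheaf J AddCommGrpCat.{u + 1})] {F F' : Sheaf J AddCommGrpCat.{u + 1}}
    (e : F ≅ F') (n : ℕ) : extSh J F n ≅ extSh J F' n :=
  K453.ExtShLES.extIso J F n ≪≫
    { hom := NatTrans.rightDerived ((homShBi J).map e.inv.op) n
      inv := NatTrans.rightDerived ((homShBi J).map e.hom.op) n
      hom_inv_id := by
        rw [← NatTrans.rightDerived_comp, ← Functor.map_comp, ← op_comp, e.hom_inv_id, op_id,
          CategoryTheory.Functor.map_id]
        exact NatTrans.rightDerived_id _ _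
      inv_hom_id := by
        rw [← NatTrans.rightDerived_comp, ← Functor.map_comp, ← op_comp, e.inv_hom_id, op_id,
          CategoryTheory.Functor.map_id]
        exact NatTrans.rightDerived_id _ _ } ≪≫ (K453.ExtShLES.extIso J F' n).symm

variable {B B' : Scheme.{u}} {X X' : Over B} [GrpObj X] [IsCommMonObj X] [GrpObj X'] [IsCommMonObj X']

theorem isZero_of_iso (e : X ≅ X') (he : IsMonHom e.hom)
    (h : IsZero ((extSh (QuotSh.J Scheme.fppfPrecoverage B)
      (CGrpSh.pts Scheme.fppfPrecoverage X) 1).obj (CGrpSh2.Gm Scheme.fppfPrecoverage B))) :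
    IsZero ((extSh (QuotSh.J Scheme.fppfPrecoverage B)
      (CGrpSh.pts Scheme.fppfPrecoverage X') 1).obj (CGrpSh2.Gm Scheme.fppfPrecoverage B)) :=
  h.of_iso ((extShIso (QuotSh.J Scheme.fppfPrecoverage B)
    (K620.GMod.ptsIso Scheme.fppfPrecoverage e).symm 1).app _)

theorem EV.of_iso (h : EV X) (e : X ≅ X') (he : IsMonHom e.hom) : EV X' := by
  intro Y y
  refine isZero_of_iso ((Over.pullback y).mapIso e) ?_ (h y)
  exact inferInstanceAs (IsMonHom ((Over.pullback y).map e.hom))

theorem EV.bc (h : EV X) (b : B' ⟶ B) : EV (Red.bc b X) := by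
  intro Y y
  exact isZero_of_iso (ActBC.bcCompIso y b X rfl).symm
    (inferInstanceAs (IsMonHom (ActBC.bcCompIso y b X rfl).inv)) (h (y ≫ b))

theorem EV.self (h : EV X) : IsZero ((extSh (QuotSh.J Scheme.fppfPrecoverage B)
      (CGrpSh.pts Scheme.fppfPrecoverage X) 1).obj (CGrpSh2.Gm Scheme.fppfPrecoverage B)) := by
  have e := Groth.Agent.Sga3B.BcIso.bcIdIso X
  exact isZero_of_iso (Groth.Agent.Sga3B.RedIso.und e) inferInstance (h (𝟙 B))

/-- Extensions. -/
theorem EV.of_ext {F G H : Over B} [GrpObj F] [IsCommMonObj F] [GrpObj G] [IsCommMonObj G]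
    [GrpObj H] [IsCommMonObj H] {f : F ⟶ G} {p : G ⟶ H} [IsMonHom f] [IsMonHom p] [Flat p.left]
    [Surjective p.left] [LocallyOfFinitePresentation p.left] (hker : AlgGrp.IsKernel f p)
    (hF : EV F) (hH : EV H) : EV G := by
  intro Y y
  let f' : Red.bc y F ⟶ Red.bc y G := (Over.pullback y).map f
  let p' : Red.bc y G ⟶ Red.bc y H := (Over.pullback y).map p
  have hk' : AlgGrp.IsKernel f' p' := Groth.Agent.Sga7.H760.KerBc.isKernel_bc y hker
  have hpb := Groth.Agent.Sga3.H515.GrpModel.isPullback_map_left y p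
  have i1 : IsMonHom f' := inferInstanceAs (IsMonHom ((Over.pullback y).map f))
  have i2 : IsMonHom p' := inferInstanceAs (IsMonHom ((Over.pullback y).map p))
  have i3 : Flat p'.left := MorphismProperty.of_isPullback (P := @Flat) hpb inferInstance
  have i4 : Surjective p'.left := MorphismProperty.of_isPullback (P := @Surjective) hpb inferInstance
  have i5 : LocallyOfFinitePresentation p'.left :=
    MorphismProperty.of_isPullback (P := @LocallyOfFinitePresentation) hpb inferInstance
  have w : f' ≫ p' = 1 := hk'.w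
  have hS := K620.HopfSeq.shortExact_of_isKernel f' p' hk' w
  have hex := K453.ExtShLES.left_exact₂ (QuotSh.J Scheme.fppfPrecoverage Y) 1
    (CGrpSh2.Gm Scheme.fppfPrecoverage Y) hS
  exact hex.isZero_X₂ ((hH y).eq_of_src _ _) ((hF y).eq_of_tgt _ _)

/-- The dual sequence of a short exact sequence. -/
theorem EV.shortExact_dual {F G H : Over B} [GrpObj F] [IsCommMonObj F] [GrpObj G] [IsCommMonObj G]
    [GrpObj H] [IsCommMonObj H] {f : F ⟶ G} {p : G ⟶ H} [IsMonHom f] [IsMonHom p] (w : f ≫ p = 1)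
    (hS : (CGrpSh.seq Scheme.fppfPrecoverage f p w).ShortExact) (hH : EV H) :
    ((CGrpSh.seq Scheme.fppfPrecoverage f p w).op.map
      (CGrpSh2.dualFunctor Scheme.fppfPrecoverage B)).ShortExact :=
  K778.DblSeq.shortExact_op_map _ _ hS hH.self

end K620.ExtV
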