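import Groth.Agent.TateGlob.K620.Mdl
import Groth.Agent.Sga3.H830.CommAux
import Groth.Agent.ConsPropPair.K286.Desc
import Groth.Agent.Flat2E.Thick

/-!
# Spreading out commutative group schemes, homomorphisms and exact sequences

`D : I ⥤ Scheme` is a cofiltered system with affine transition maps and limit cone `c` whose projections are
scheme-theoretically dominant.

* `exists_mdl`: a flat separated finitely presented commutative group over `c.pt` has a model at a stage;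
* `exists_lift`: homomorphisms extend to models after enlarging the stage;
* `exists_prop_hom`, `exists_prop`, `exists_lifts`: properties descending along limits;
* `exists_iso`, `exists_eqv`: isomorphisms extend, two models become equivalent;
* `exists_exact`: exact sequences extend.
-/

set_option autoImplicit false
set_option backward.isDefEq.respectTransparency false
set_option backward.defeqAttrib.useBackward true
universe u
open CategoryTheory CategoryTheory.Limits MonoidalCategory CartesianMonoidalCategory MonObj GrpObj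
  AlgebraicGeometry

namespace K620.GMod

open K210.LimHom Groth.Agent.Ega43.LimitDescend Groth.Agent.Sga3.H515 GrpModel GrpStage BcRaw

variable {I : Type u} [SmallCategory I] {D : I ⥤ Scheme.{u}} {c : Cone D}

/-- Enlarging the stage of a model. -/
noncomputable abbrev Mdl.mv {G : Over c.pt} [GrpObj G] {i j : I} (M : Mdl (c.π.app i) G) (f : j ⟶ i) :
    Mdl (c.π.app j) G := M.bc (D.map f) (c.w f)

variable {i : I} {G H L : Over c.pt} [GrpObj G] [GrpObj H] [GrpObj L]

/-- Composition of enlargements. -/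
theorem eqv_mv_mv (M : Mdl (c.π.app i) G) {j k : I} (f : j ⟶ i) (g : k ⟶ j) :
    Eqv ((M.mv f).mv g) (M.mv (g ≫ f)) :=
  Eqv.bc_bc M _ _ _ _ (D.map_comp g f).symm _

theorem eqv_mv_id (M : Mdl (c.π.app i) G) : Eqv (M.mv (𝟙 i)) M := by
  let θ : Red.bc (D.map (𝟙 i)) M.X ≅ M.X :=
    Over.isoMk (asIso (pullback.fst M.X.hom (D.map (𝟙 i)))) (by
      change pullback.fst M.X.hom (D.map (𝟙 i)) ≫ M.X.hom = pullback.snd M.X.hom (D.map (𝟙 i))
      rw [pullback.condition, D.map_id, Category.comp_id])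
  have h1 : (Over.pullback (c.π.app i)).map θ.hom =
      (ActBC.bcCompIso (c.π.app i) (D.map (𝟙 i)) M.X (c.w (𝟙 i))).hom := by
    apply bc_hom_ext
    rw [ActBC.bcCompIso_hom_left_fst, ActBC.pullback_map_left_fst]
    rfl
  refine ⟨θ, ?_⟩
  change (Over.pullback (c.π.app i)).map θ.hom ≫ M.e.hom =
    ((ActBC.bcCompIso (c.π.app i) (D.map (𝟙 i)) M.X (c.w (𝟙 i))).hom ≫ M.e.hom) ≫ 𝟙 G
  rw [h1, Category.comp_id]

theorem Lifts.mv {P : MorphismProperty Scheme.{u}} [P.IsStableUnderBaseChange]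
    {M : Mdl (c.π.app i) G} {M' : Mdl (c.π.app i) H} {u : G ⟶ H} {j k : I} {f : j ⟶ i}
    (h : Lifts P (M.mv f) (M'.mv f) u) (g : k ⟶ j) : Lifts P (M.mv (g ≫ f)) (M'.mv (g ≫ f)) u := by
  have := MorphismProperty.IsStableUnderBaseChange.respectsIso (P := P)
  exact (h.bc (D.map g) (c.w g)).of_eqv (eqv_mv_mv M f g) (eqv_mv_mv M' f g)

theorem ExactAt.mv [∀ i, IsSchemeTheoreticallyDominant (c.π.app i)] [∀ i, QuasiCompact (c.π.app i)]
    {M : Mdl (c.π.app i) G} {M' : Mdl (c.π.app i) H} {M'' : Mdl (c.π.app i) L}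
    {u : G ⟶ H} {v : H ⟶ L} [IsMonHom v] {j k : I} {f : j ⟶ i}
    (h : ExactAt (M.mv f) (M'.mv f) (M''.mv f) u v) (g : k ⟶ j) :
    ExactAt (M.mv (g ≫ f)) (M'.mv (g ≫ f)) (M''.mv (g ≫ f)) u v :=
  (h.bc (D.map g) (c.w g)).of_eqv (eqv_mv_mv M f g) (eqv_mv_mv M' f g) (eqv_mv_mv M'' f g)

variable [IsCofiltered I] (hc : IsLimit c) [∀ (i i' : I) (f : i ⟶ i'), IsAffineHom (D.map f)]
    [∀ i, CompactSpace (D.obj i)] [∀ i, QuasiSeparatedSpace (D.obj i)]

include hc

/-- Homomorphisms extend to models. -/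
theorem exists_lift (M : Mdl (c.π.app i) G) (M' : Mdl (c.π.app i) H) (u : G ⟶ H) :
    ∃ (j : I) (f : j ⟶ i) (u' : (M.mv f).X ⟶ (M'.mv f).X), IsLift (M.mv f) (M'.mv f) u u' := by
  obtain ⟨j, f, v, hv⟩ := exists_map_eq_of hc M.X M'.X (M.e.hom ≫ u ≫ M'.e.inv)
  refine ⟨j, f, v, ?_⟩
  change (Over.pullback (c.π.app j)).map v ≫
    (ActBC.bcCompIso (c.π.app j) (D.map f) M'.X (c.w f)).hom ≫ M'.e.hom =
    ((ActBC.bcCompIso (c.π.app j) (D.map f) M.X (c.w f)).hom ≫ M.e.hom) ≫ u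
  rw [hv]
  simp

/-- Properties of the group which descend along limits hold for the model at a later stage. -/
theorem exists_prop_hom {P : MorphismProperty Scheme.{u}} (hP : DescendsLim P)
    (M : Mdl (c.π.app i) G) (h : P G.hom) : ∃ (j : I) (f : j ⟶ i), P (M.mv f).X.hom := by
  obtain ⟨k, hk⟩ := exists_stage_prop hc hP M.e h
  exact ⟨k.left, k.hom, hk⟩

/-- Properties of homomorphisms. -/
theorem exists_prop {P : MorphismProperty Scheme.{u}} [P.RespectsIso] (hP : DescendsLim P)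
    {M : Mdl (c.π.app i) G} {M' : Mdl (c.π.app i) H} {u : G ⟶ H} {u' : M.X ⟶ M'.X}
    (hu : IsLift M M' u u') (h : P u.left) :
    ∃ (j : I) (f : j ⟶ i), P ((Over.pullback (D.map f)).map u').left :=
  exists_prop_map hc hP u' ((prop_iff_of_iso M.e M'.e _ u hu).mpr h)

/-- Homomorphisms with a property extend. -/
theorem exists_lifts {P : MorphismProperty Scheme.{u}} [P.IsStableUnderBaseChange]
    (hP : DescendsLim P) (M : Mdl (c.π.app i) G) (M' : Mdl (c.π.app i) H) (u : G ⟶ H)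
    (h : P u.left) : ∃ (j : I) (f : j ⟶ i), Lifts P (M.mv f) (M'.mv f) u := by
  have := MorphismProperty.IsStableUnderBaseChange.respectsIso (P := P)
  obtain ⟨j, f, u', hu⟩ := exists_lift hc M M' u
  obtain ⟨k, g, hg⟩ := exists_prop hc hP hu h
  exact ⟨k, g ≫ f, Lifts.of_eqv ⟨_, hu.bc (D.map g) (c.w g), hg⟩ (eqv_mv_mv M f g) (eqv_mv_mv M' f g)⟩

/-- Isomorphisms extend to models. -/
theorem exists_iso (M : Mdl (c.π.app i) G) (M' : Mdl (c.π.app i) H) (e : G ≅ H) :
    ∃ (j : I) (f : j ⟶ i) (e' : (M.mv f).X ≅ (M'.mv f).X), IsLift (M.mv f) (M'.mv f) e.hom e'.hom := by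
  have h1 : (MorphismProperty.isomorphisms Scheme.{u}) e.hom.left :=
    inferInstanceAs (IsIso ((Over.forget _).map e.hom))
  obtain ⟨j, f, u, hu, hi⟩ := exists_lifts hc Groth.Agent.Ega43.LimitDescendIso.descendsLim_isomorphisms
    M M' e.hom h1
  have : IsIso ((Over.forget _).map u) := hi
  have : IsIso u := isIso_of_reflects_iso u (Over.forget _)
  exact ⟨j, f, asIso u, hu⟩

/-- Two models become equivalent. -/
theorem exists_eqv {j : I} (M : Mdl (c.π.app i) G) (M' : Mdl (c.π.app j) G) :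
    ∃ (k : I) (f : k ⟶ i) (g : k ⟶ j), Eqv (M.mv f) (M'.mv g) := by
  obtain ⟨k, a, b, -⟩ := IsCofilteredOrEmpty.cone_objs i j
  obtain ⟨l, f, θ, hθ⟩ := exists_iso hc (M.mv a) (M'.mv b) (Iso.refl G)
  exact ⟨l, f ≫ a, f ≫ b, (eqv_mv_mv M a f).symm.trans (Eqv.trans ⟨θ, hθ⟩ (eqv_mv_mv M' b f))⟩

/-- A property of models which holds for one model holds for every model at a later stage. -/
theorem exists_good {Q : ∀ {j : I}, Mdl (c.π.app j) G → Prop}
    (hiso : ∀ {j : I} {M M' : Mdl (c.π.app j) G}, Eqv M M' → Q M → Q M')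
    (hbc : ∀ {j k : I} (f : k ⟶ j) {M : Mdl (c.π.app j) G}, Q M → Q (M.mv f))
    {j : I} (M : Mdl (c.π.app i) G) (hM : Q M) (M' : Mdl (c.π.app j) G) :
    ∃ (k : I) (g : k ⟶ j), Q (M'.mv g) := by
  obtain ⟨k, f, g, h⟩ := exists_eqv hc M M'
  exact ⟨k, g, hiso h (hbc f hM)⟩

omit hc in
/-- The morphism to the kernel. -/
theorem isKernel_of_isIso {S : Scheme.{u}} {X Y Z K : Over S} [GrpObj Z] {x : X ⟶ Y} {y : Y ⟶ Z}
    {k : K ⟶ Y} (hk : AlgGrp.IsKernel k y) (r : X ⟶ K) (hr : r ≫ k = x) (h : IsIso r) :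
    AlgGrp.IsKernel x y := by
  refine IsPullback.of_iso hk (asIso r).symm (Iso.refl _) (Iso.refl _) (Iso.refl _) ?_
    (toUnit_unique _ _) (by simp) (by simp)
  simp [← hr]

omit hc in
theorem isIso_of_isKernel {S : Scheme.{u}} {X Y Z K : Over S} [GrpObj Z] {x : X ⟶ Y} {y : Y ⟶ Z}
    {k : K ⟶ Y} (hk : AlgGrp.IsKernel k y) (hx : AlgGrp.IsKernel x y) (r : X ⟶ K)
    (hr : r ≫ k = x) : IsIso r := by
  have : r = (hx.isoIsPullback _ _ hk).hom := by
    refine hk.hom_ext ?_ (toUnit_unique _ _)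
    rw [hr, hx.isoIsPullback_hom_fst]
  rw [this]
  infer_instance

variable [∀ i, IsSchemeTheoreticallyDominant (c.π.app i)] [∀ i, QuasiCompact (c.π.app i)]

/-- Existence of models. -/
theorem exists_mdl (G : Over c.pt) [GrpObj G] [IsCommMonObj G] [Flat G.hom] [IsSeparated G.hom]
    [LocallyOfFinitePresentation G.hom] [QuasiCompact G.hom] (i₀ : I) :
    ∃ (i : I) (_ : i ⟶ i₀), Nonempty (Mdl (c.π.app i) G) := by
  obtain ⟨i, s, h1, -, -⟩ := exists_stage_of_props (𝟙 G)
    ![(@Flat : MorphismProperty Scheme.{u}), (@IsSeparated : MorphismProperty Scheme.{u})]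
    (fun _ : Fin 0 => (@Flat : MorphismProperty Scheme.{u}))
    (fun _ : Fin 0 => (@Flat : MorphismProperty Scheme.{u})) hc
    (by
      intro a
      fin_cases a
      · exact LimSmooth.descendsLim_flat
      · exact LimSmooth.descendsLim_isSeparated)
    (by
      intro a
      fin_cases a
      · exact inferInstanceAs (MorphismProperty.IsStableUnderBaseChange @Flat)
      · exact inferInstanceAs (MorphismProperty.IsStableUnderBaseChange @IsSeparated))
    (fun a => a.elim0) (fun a => a.elim0) (fun a => a.elim0) (fun a => a.elim0)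
  let t : c.pt ⟶ D.obj s.j.left := c.π.app s.j.left
  let X : Over (D.obj s.j.left) := Red.bc (D.map s.j.hom) s.G₀
  let : GrpObj X := grpObj s.hr
  have hfl : Flat X.hom := h1 0 ‹_›
  have hsep : IsSeparated X.hom := h1 1 ‹_›
  have hlfp : LocallyOfFinitePresentation X.hom := bc_lfp _ _ s.lfpG
  have hqc : QuasiCompact X.hom := bc_qc _ _ s.qcG
  let e : Red.bc t X ≅ G := theta _ _ (c.w s.j.hom) s.G₀ ≪≫ s.εG
  have hmon : IsMonHom e.hom := isMonHom_theta _ _ (c.w s.j.hom) s.hr s.εG (pr _ s.j) rfl s.hrG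
  have hcomm : IsCommMonObj X :=
    isComm_of_bc t (Groth.Agent.Sga3.H830.CommAux.isCommMonObj_of_mono e.hom)
  let M : Mdl t G := { X := X, e := e }
  obtain ⟨k, a, b, -⟩ := IsCofilteredOrEmpty.cone_objs s.j.left i₀
  exact ⟨k, b, ⟨M.mv a⟩⟩

/-- Exact sequences extend. -/
theorem exists_exact (M : Mdl (c.π.app i) G) (M' : Mdl (c.π.app i) H) (M'' : Mdl (c.π.app i) L)
    (u : G ⟶ H) (v : H ⟶ L) [IsMonHom u] [IsMonHom v] (hk : AlgGrp.IsKernel u v) (hfl : Flat v.left)
    (hs : Surjective v.left) : ∃ (j : I) (f : j ⟶ i), ExactAt (M.mv f) (M'.mv f) (M''.mv f) u v := by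
  obtain ⟨j₁, f₁, u₁, hu₁⟩ := exists_lift hc M M' u
  have h₁ : Lifts ⊤ (M.mv f₁) (M'.mv f₁) u := ⟨u₁, hu₁, trivial⟩
  obtain ⟨j₂, f₂, h₂⟩ := exists_lifts hc LimSmooth.descendsLim_flat M' M'' v hfl
  obtain ⟨j₃, f₃, h₃⟩ := exists_lifts hc K286.Desc.descendsLim_surjective M' M'' v hs
  obtain ⟨j₄, a₁, a₂, ha⟩ := IsCofiltered.cospan f₁ f₂
  obtain ⟨j, b₄, b₃, hb⟩ := IsCofiltered.cospan (a₁ ≫ f₁) f₃
  have e₂ : (b₄ ≫ a₂) ≫ f₂ = b₄ ≫ a₁ ≫ f₁ := by rw [Category.assoc, ha]
  have l₁ := h₁.mv (b₄ ≫ a₁)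
  have l₂ := h₂.mv (b₄ ≫ a₂)
  have l₃ := h₃.mv b₃
  rw [e₂] at l₂
  rw [← hb] at l₃
  rw [Category.assoc] at l₁
  generalize b₄ ≫ a₁ ≫ f₁ = f at l₁ l₂ l₃
  obtain ⟨u', hu', -⟩ := l₁
  obtain ⟨v', hv', hfl'⟩ := l₂
  obtain ⟨v'', hv'', hs'⟩ := l₃
  obtain rfl := hv''.unique hv'
  have : IsMonHom v'' := hv''.isMonHom
  have hw : u ≫ v = 1 := hk.w
  have hw' : u' ≫ v'' = 1 := (hu'.comp hv'').unique (by rw [hw]; exact IsLift.one _ _)
  obtain ⟨r, hr⟩ := Groth.Agent.Sga3B.KerGrp.exists_lift v'' u' hw'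
  have hK := Groth.Agent.Sga3B.KerGrp.isPullback_ker v''
  have hx : AlgGrp.IsKernel ((Over.pullback (c.π.app j)).map u')
      ((Over.pullback (c.π.app j)).map v'') := by
    refine IsPullback.of_iso hk (M.mv f).e.symm (M'.mv f).e.symm (Iso.refl _) (M''.mv f).e.symm ?_
      (toUnit_unique _ _) ?_ ?_
    · rw [hu'.map_eq]
      simp
    · rw [hv''.map_eq]
      simp
    · rw [Iso.refl_hom, Category.id_comp, Iso.symm_hom]
      exact IsMonHom.one_hom _
  have hi : IsIso ((Over.pullback (c.π.app j)).map r) :=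
    isIso_of_isKernel (Groth.Agent.Sga7.H760.KerBc.isKernel_bc (c.π.app j) hK) hx _
      (by rw [← Functor.map_comp, hr])
  have c0 : v''.left ≫ (M''.mv f).X.hom = (M'.mv f).X.hom := Over.w v''
  have c1 : LocallyOfFinitePresentation v''.left := by
    have : LocallyOfFinitePresentation (v''.left ≫ (M''.mv f).X.hom) := by rw [c0]; infer_instance
    exact Groth.Agent.Flat2E.Thick.locallyOfFinitePresentation_of_comp _ (M''.mv f).X.hom
  have c2 : QuasiCompact v''.left := by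
    have : QuasiCompact (v''.left ≫ (M''.mv f).X.hom) := by rw [c0]; infer_instance
    exact QuasiCompact.of_comp _ (M''.mv f).X.hom
  have c3 : QuasiSeparated v''.left := by
    have : QuasiSeparated (v''.left ≫ (M''.mv f).X.hom) := by rw [c0]; infer_instance
    exact QuasiSeparated.of_comp _ (M''.mv f).X.hom
  have d1 : LocallyOfFinitePresentation (Groth.Agent.Sga3B.KerGrp.kerObj v'').hom :=
    inferInstanceAs (LocallyOfFinitePresentation (pullback.snd v''.left _))
  have d2 : QuasiCompact (Groth.Agent.Sga3B.KerGrp.kerObj v'').hom :=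
    inferInstanceAs (QuasiCompact (pullback.snd v''.left _))
  have d3 : QuasiSeparated (Groth.Agent.Sga3B.KerGrp.kerObj v'').hom :=
    inferInstanceAs (QuasiSeparated (pullback.snd v''.left _))
  obtain ⟨k, g, hg⟩ := exists_prop_map hc
    Groth.Agent.Ega43.LimitDescendIso.descendsLim_isomorphisms r
    (inferInstanceAs (IsIso ((Over.forget _).map ((Over.pullback (c.π.app j)).map r))))
  have : IsIso ((Over.forget _).map ((Over.pullback (D.map g)).map r)) := hg
  have hgi : IsIso ((Over.pullback (D.map g)).map r) := isIso_of_reflects_iso _ (Over.forget _)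
  refine ⟨k, g ≫ f, ExactAt.of_eqv (M := (M.mv f).mv g) (M' := (M'.mv f).mv g)
    (M'' := (M''.mv f).mv g) ?_ (eqv_mv_mv M f g) (eqv_mv_mv M' f g) (eqv_mv_mv M'' f g)⟩
  refine ⟨_, _, hu'.bc (D.map g) (c.w g), hv''.bc (D.map g) (c.w g),
    isKernel_of_isIso (Groth.Agent.Sga7.H760.KerBc.isKernel_bc (D.map g) hK) _
      (by rw [← Functor.map_comp, hr]) hgi, ?_, ?_⟩
  · exact MorphismProperty.of_isPullback (P := @Flat) (isPullback_map_left _ v'') hfl'
  · exact MorphismProperty.of_isPullback (P := @Surjective) (isPullback_map_left _ v'') hs'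

end K620.GMod
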