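import Groth.Agent.TateGlob.K620.MdlLim
import Groth.Agent.Sga3B.DsBc
import Groth.Agent.Sga3B.TorusEtSplit
import Groth.Agent.Sga3B.AlgBc2
import Groth.Agent.Sga3.H786.TCAff

/-!
# Spreading out tori

`MdlLim` applied to the base change of the system along a flat finitely presented `E₀ → D i`.

* `Mdl.sq`: base change of a model along a commutative square of bases;
* `exists_split_stage`: an isomorphism over `E₀ ×_{D i} c.pt` between the base changes of two models extends to
  a stage;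
* `isTorus_stage`: a model of a torus split by a finitely presented flat covering is a torus at a later stage.
-/

set_option autoImplicit false
set_option backward.isDefEq.respectTransparency false
set_option backward.defeqAttrib.useBackward true
universe u
open CategoryTheory CategoryTheory.Limits MonoidalCategory CartesianMonoidalCategory MonObj GrpObj
  AlgebraicGeometry

namespace K620.GMod

open K210.LimHom Groth.Agent.Ega43.LimitDescend Groth.Agent.Sga3.H515 GrpModel GrpStage BcRaw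

section Sq

variable {N N' B B' : Scheme.{u}} {t : N ⟶ B} {t' : N' ⟶ B'} {G : Over N} [GrpObj G]

/-- Base change of a model along a commutative square of bases. -/
noncomputable def Mdl.sq (M : Mdl t G) (n : N' ⟶ N) (b : B' ⟶ B) {d : N' ⟶ B} (h : t' ≫ b = d)
    (h' : n ≫ t = d) : Mdl t' (Red.bc n G) where
  X := Red.bc b M.X
  flat := flat_bc b M.X
  lfp := lfp_bc b M.X
  qc := qc_bc b M.X
  e := ActBC.bcCompIso t' b M.X h ≪≫ (ActBC.bcCompIso n t M.X h').symm ≪≫
    (Over.pullback n).mapIso M.e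
  mon := by
    have : IsMonHom ((Over.pullback n).mapIso M.e).hom :=
      inferInstanceAs (IsMonHom ((Over.pullback n).map M.e.hom))
    rw [Iso.trans_hom, Iso.trans_hom]
    have : IsMonHom (ActBC.bcCompIso n t M.X h').symm.hom :=
      inferInstanceAs (IsMonHom (ActBC.bcCompIso n t M.X h').inv)
    infer_instance

/-- The groups `D(M)`. -/
theorem props_DS (S : Scheme.{u}) (r : ℕ) : Flat (Red.DS S (Fin r → ℤ)).hom ∧
    IsSeparated (Red.DS S (Fin r → ℤ)).hom ∧ LocallyOfFinitePresentation (Red.DS S (Fin r → ℤ)).hom ∧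
    QuasiCompact (Red.DS S (Fin r → ℤ)).hom := by
  have h1 : Flat (Red.diag (ULift.{u} ℤ) (Fin r → ℤ)).hom := by
    change Flat (Spec.map (CommRingCat.ofHom (algebraMap (ULift.{u} ℤ)
      (MonoidAlgebra (ULift.{u} ℤ) (Multiplicative (Fin r → ℤ))))))
    rw [HasRingHomProperty.Spec_iff (P := @Flat)]
    change (algebraMap (ULift.{u} ℤ)
      (MonoidAlgebra (ULift.{u} ℤ) (Multiplicative (Fin r → ℤ)))).Flat
    rw [RingHom.flat_algebraMap_iff]
    infer_instance
  have h2 : IsAffineHom (Red.diag (ULift.{u} ℤ) (Fin r → ℤ)).hom := by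
    change IsAffineHom (Spec.map _)
    infer_instance
  have h3 : LocallyOfFinitePresentation (Red.diag (ULift.{u} ℤ) (Fin r → ℤ)).hom := by
    change LocallyOfFinitePresentation (Spec.map (CommRingCat.ofHom (algebraMap (ULift.{u} ℤ)
      (MonoidAlgebra (ULift.{u} ℤ) (Multiplicative (Fin r → ℤ))))))
    rw [HasRingHomProperty.Spec_iff (P := @LocallyOfFinitePresentation)]
    change (algebraMap (ULift.{u} ℤ)
      (MonoidAlgebra (ULift.{u} ℤ) (Multiplicative (Fin r → ℤ)))).FinitePresentation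
    rw [RingHom.finitePresentation_algebraMap]
    have h5 : Algebra.FiniteType (ULift.{u} ℤ)
      (MonoidAlgebra (ULift.{u} ℤ) (Multiplicative (Fin r → ℤ))) := inferInstance
    have h6 : IsNoetherianRing (ULift.{u} ℤ) :=
      isNoetherianRing_of_ringEquiv ℤ ULift.ringEquiv.symm
    exact Algebra.FinitePresentation.of_finiteType.mp h5
  have h4 : IsAffineHom (Red.DS S (Fin r → ℤ)).hom :=
    MorphismProperty.pullback_snd (P := @IsAffineHom) _ _ h2
  exact ⟨MorphismProperty.pullback_snd (P := @Flat) _ _ h1, inferInstance,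
    MorphismProperty.pullback_snd (P := @LocallyOfFinitePresentation) _ _ h3, inferInstance⟩

end Sq

section Split

variable {I : Type u} [SmallCategory I] {D : I ⥤ Scheme.{u}} {c : Cone D} [IsCofiltered I] (hc : IsLimit c)
  [∀ (i i' : I) (f : i ⟶ i'), IsAffineHom (D.map f)]
  [∀ i, CompactSpace (D.obj i)] [∀ i, QuasiSeparatedSpace (D.obj i)]
  [∀ i, IsSchemeTheoreticallyDominant (c.π.app i)] [∀ i, QuasiCompact (c.π.app i)]
  {i : I} {G : Over c.pt} [GrpObj G] [IsCommMonObj G]

include hc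

theorem exists_split_stage (M : Mdl (c.π.app i) G) (E₀ : Over (D.obj i)) [Flat E₀.hom]
    [QuasiCompact E₀.hom] [QuasiSeparated E₀.hom] (H₀ : Over E₀.left) [GrpObj H₀] [Flat H₀.hom]
    [IsSeparated H₀.hom] [LocallyOfFinitePresentation H₀.hom] [QuasiCompact H₀.hom]
    (φ : Red.bc (pullback.fst E₀.hom (c.π.app i)) H₀ ≅ Red.bc (pullback.snd E₀.hom (c.π.app i)) G)
    (hφ : IsMonHom φ.hom) :
    ∃ (j : I) (f : j ⟶ i) (e : Red.bc (pullback.fst E₀.hom (D.map f)) H₀ ≅
      Red.bc (pullback.snd E₀.hom (D.map f)) (M.mv f).X), IsMonHom e.hom := by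
  let t : ∀ j : Over i, (Over.forget i ⋙ D).obj j ⟶ D.obj i := fun j ↦ D.map j.hom
  have ht : ∀ {j j' : Over i} (φ : j ⟶ j'), (Over.forget i ⋙ D).map φ ≫ t j' = t j :=
    fun φ ↦ overT_w D i φ
  have hp : ∀ j, (overCone c i).π.app j ≫ t j = c.π.app i := fun j ↦ by
    simp [t]
  let n : pullback E₀.hom (c.π.app i) ⟶ c.pt := pullback.snd E₀.hom (c.π.app i)
  have hn : IsPullback (pullback.fst E₀.hom (c.π.app i)) n E₀.hom (c.π.app i) := .of_hasPullback _ _
  let c' := pbCone t ht E₀.hom (overCone c i) (c.π.app i) hp _ n hn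
  have hc' : IsLimit c' := isLimitPbCone t ht E₀.hom (overCone c i) (c.π.app i) hp _ n hn
    (isLimitOverCone c hc i)
  have i1 : ∀ j, CompactSpace ((pbDiagram t ht E₀.hom).obj j) := fun j ↦ by
    dsimp
    exact QuasiCompact.compactSpace_of_compactSpace (pullback.snd E₀.hom (t j))
  have i2 : ∀ j, QuasiSeparatedSpace ((pbDiagram t ht E₀.hom).obj j) := fun j ↦ by
    dsimp
    exact quasiSeparatedSpace_of_quasiSeparated (pullback.snd E₀.hom (t j))
  have hsq := fun j => isPullback_pbCone t ht E₀.hom (overCone c i) (c.π.app i) hp _ n hn j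
  have q0 : ∀ j, IsSchemeTheoreticallyDominant ((overCone c i).π.app j) := fun j =>
    inferInstanceAs (IsSchemeTheoreticallyDominant (c.π.app j.left))
  have q1 : ∀ j, QuasiCompact ((overCone c i).π.app j) := fun j =>
    inferInstanceAs (QuasiCompact (c.π.app j.left))
  have i3 : ∀ j, IsSchemeTheoreticallyDominant (c'.π.app j) := fun j =>
    IsSchemeTheoreticallyDominant.of_isPullback (hsq j).flip
  have i4 : ∀ j, QuasiCompact (c'.π.app j) := fun j =>
    MorphismProperty.of_isPullback (P := @QuasiCompact) (hsq j).flip inferInstance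
  let o : Over i := Over.mk (𝟙 i)
  have e1 : c'.π.app o ≫ pullback.fst E₀.hom (t o) = pullback.fst E₀.hom (c.π.app i) :=
    pbCone_π_fst t ht E₀.hom (overCone c i) (c.π.app i) hp _ n hn o
  have e2 : c'.π.app o ≫ pullback.snd E₀.hom (t o) = n ≫ c.π.app i :=
    pbCone_π_snd t ht E₀.hom (overCone c i) (c.π.app i) hp _ n hn o
  let MG : Mdl (c'.π.app o) (Red.bc n G) := M.sq n (pullback.snd E₀.hom (t o)) e2 rfl
  let XH : Over ((pbDiagram t ht E₀.hom).obj o) := Red.bc (pullback.fst E₀.hom (t o)) H₀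
  have f1 : Flat XH.hom := flat_bc _ H₀
  have f2 : LocallyOfFinitePresentation XH.hom := lfp_bc _ H₀
  have f3 : QuasiCompact XH.hom := qc_bc _ H₀
  let eH : Red.bc (c'.π.app o) XH ≅ Red.bc n G :=
    ActBC.bcCompIso (c'.π.app o) (pullback.fst E₀.hom (t o)) H₀ e1 ≪≫ φ
  have hH : IsMonHom eH.hom := by
    rw [Iso.trans_hom]
    infer_instance
  have hcomm : IsCommMonObj XH :=
    isComm_of_bc (c'.π.app o) (Groth.Agent.Sga3.H830.CommAux.isCommMonObj_of_mono eH.hom)
  let MH : Mdl (c'.π.app o) (Red.bc n G) := { X := XH, e := eH }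
  obtain ⟨j, a, a', θ, hθ⟩ := exists_eqv hc' MG MH
  have hmon : IsMonHom θ.hom := hθ.isMonHom
  have h1 : (pbDiagram t ht E₀.hom).map a' ≫ pullback.fst E₀.hom (t o) =
      pullback.fst E₀.hom (D.map j.hom) := pbDiagram_map_fst t ht E₀.hom a'
  have h2 : (pbDiagram t ht E₀.hom).map a ≫ pullback.snd E₀.hom (t o) =
      pullback.snd E₀.hom (D.map j.hom) ≫ D.map j.hom := by
    have h3 : a.left = j.hom := by simpa [o] using Over.w a
    have h4 : (pbDiagram t ht E₀.hom).map a ≫ pullback.snd E₀.hom (t o) =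
      pullback.snd E₀.hom (D.map j.hom) ≫ D.map a.left := pullback.lift_snd _ _ _
    rw [h4, h3]
  let e : Red.bc (pullback.fst E₀.hom (D.map j.hom)) H₀ ≅
      Red.bc (pullback.snd E₀.hom (D.map j.hom)) (M.mv j.hom).X :=
    (ActBC.bcCompIso ((pbDiagram t ht E₀.hom).map a') (pullback.fst E₀.hom (t o)) H₀ h1).symm ≪≫
      θ.symm ≪≫ ActBC.bcCompIso ((pbDiagram t ht E₀.hom).map a) (pullback.snd E₀.hom (t o)) M.X h2 ≪≫
      (ActBC.bcCompIso (pullback.snd E₀.hom (D.map j.hom)) (D.map j.hom) M.X rfl).symm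
  refine ⟨j.left, j.hom, e, ?_⟩
  have m1 : IsMonHom (ActBC.bcCompIso ((pbDiagram t ht E₀.hom).map a') (pullback.fst E₀.hom (t o)) H₀
    h1).inv := inferInstance
  have m2 : IsMonHom (ActBC.bcCompIso ((pbDiagram t ht E₀.hom).map a) (pullback.snd E₀.hom (t o)) M.X
    h2).hom := inferInstance
  have m3 : IsMonHom (ActBC.bcCompIso (pullback.snd E₀.hom (D.map j.hom)) (D.map j.hom) M.X rfl).inv :=
    inferInstance
  have m4 : IsMonHom θ.inv := inferInstance
  have m5 : IsMonHom ((ActBC.bcCompIso ((pbDiagram t ht E₀.hom).map a) (pullback.snd E₀.hom (t o)) M.X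
    h2).hom ≫ (ActBC.bcCompIso (pullback.snd E₀.hom (D.map j.hom)) (D.map j.hom) M.X rfl).inv) :=
    inferInstance
  have m6 : IsMonHom (θ.inv ≫ (ActBC.bcCompIso ((pbDiagram t ht E₀.hom).map a)
    (pullback.snd E₀.hom (t o)) M.X h2).hom ≫
      (ActBC.bcCompIso (pullback.snd E₀.hom (D.map j.hom)) (D.map j.hom) M.X rfl).inv) :=
    inferInstance
  exact instIsMonHomComp (ActBC.bcCompIso ((pbDiagram t ht E₀.hom).map a')
    (pullback.fst E₀.hom (t o)) H₀ h1).inv (θ.inv ≫ (ActBC.bcCompIso ((pbDiagram t ht E₀.hom).map a)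
    (pullback.snd E₀.hom (t o)) M.X h2).hom ≫
      (ActBC.bcCompIso (pullback.snd E₀.hom (D.map j.hom)) (D.map j.hom) M.X rfl).inv)

omit [∀ i, IsSchemeTheoreticallyDominant (c.π.app i)] [∀ i, QuasiCompact (c.π.app i)] in
/-- Models of faithfully flat finitely presented schemes. -/
theorem exists_cover (E : Over c.pt) [Flat E.hom] [Surjective E.hom] [LocallyOfFinitePresentation E.hom]
    [QuasiCompact E.hom] [QuasiSeparated E.hom] (i : I) :
    ∃ (j : I) (_ : j ⟶ i) (E₀ : Over (D.obj j)), Flat E₀.hom ∧ Surjective E₀.hom ∧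
      LocallyOfFinitePresentation E₀.hom ∧ QuasiCompact E₀.hom ∧ QuasiSeparated E₀.hom ∧
      Nonempty (Red.bc (c.π.app j) E₀ ≅ E) := by
  obtain ⟨i₁, ⟨M₁⟩⟩ := Groth.Agent.CalgA.LimFP.Mdl.exists_model hc E.hom
  obtain ⟨j, a₁, a₂, -⟩ := IsCofilteredOrEmpty.cone_objs i₁ i
  let M := M₁.bc a₁
  let X : Over (D.obj j) := Over.mk M.f
  have l1 : LocallyOfFinitePresentation X.hom := M.lfp
  have l2 : QuasiCompact X.hom := M.qc
  have l3 : QuasiSeparated X.hom := M.qs
  let ε : Red.bc (c.π.app j) X ≅ E := mdlIso M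
  obtain ⟨k₁, h₁⟩ := exists_stage_prop hc LimSmooth.descendsLim_flat ε ‹Flat E.hom›
  obtain ⟨k₂, h₂⟩ := exists_stage_prop hc K286.Desc.descendsLim_surjective ε ‹Surjective E.hom›
  obtain ⟨k, b₁, b₂, -⟩ := IsCofilteredOrEmpty.cone_objs k₁ k₂
  have h₁' := prop_stage b₁ h₁
  have h₂' := prop_stage b₂ h₂
  exact ⟨k.left, k.hom ≫ a₂, Red.bc (D.map k.hom) X, h₁', h₂', bc_lfp _ _ l1, bc_qc _ _ l2, bc_qs _ _ l3,
    ⟨ActBC.bcCompIso (c.π.app k.left) (D.map k.hom) X (c.w k.hom) ≪≫ ε⟩⟩

end Split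

end K620.GMod
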